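import Mathlib.Algebra.Azumaya.Defs
import Mathlib.RingTheory.Nakayama
import Mathlib.RingTheory.TensorProduct.Maps
import Mathlib.LinearAlgebra.TensorProduct.Tower
import Mathlib.Tactic

/-!
An Azumaya criterion by a dual basis made of two-sided multiplications, and a central retraction.
-/

open TensorProduct MulOpposite

namespace QuadCEven

universe u v w

section Crit

variable {R : Type u} [CommRing R] {E : Type v} [Ring E] [Algebra R E]

/-- `a ⊗ b ↦ g a * b`. -/
noncomputable def pairMap (g : Module.End R E) : E ⊗[R] Eᵐᵒᵖ →ₗ[R] E :=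
  TensorProduct.lift (((LinearMap.mul R E).comp g).compl₂ (MulOpposite.opLinearEquiv R).symm.toLinearMap)

@[simp] theorem pairMap_tmul (g : Module.End R E) (a : E) (b : Eᵐᵒᵖ) : pairMap g (a ⊗ₜ b) = g a * b.unop := rfl

theorem pairMap_zero (c : E ⊗[R] Eᵐᵒᵖ) : pairMap (0 : Module.End R E) c = 0 := by
  induction c using TensorProduct.induction_on with
  | zero => rw [map_zero]
  | tmul a b => simp
  | add c c' hc hc' => rw [map_add, hc, hc', add_zero]

theorem pairMap_mulLeftRight (u v : E) (c : E ⊗[R] Eᵐᵒᵖ) :
    pairMap (AlgHom.mulLeftRight R E (u ⊗ₜ op v)) c = u * AlgHom.mulLeftRight R E c v := by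
  induction c using TensorProduct.induction_on with
  | zero => simp
  | tmul a b => simp [mul_assoc]
  | add c c' hc hc' => rw [map_add, hc, hc', map_add, LinearMap.add_apply, mul_add]

variable {κ : Type w} [Fintype κ] (x : κ → E) (f : κ → E →ₗ[R] R) (hsum : ∀ y, ∑ k, f k y • x k = y)
  (hf : ∀ k, ∃ c : E ⊗[R] Eᵐᵒᵖ, ∀ y, AlgHom.mulLeftRight R E c y = algebraMap R E (f k y))

include hsum hf

theorem mulLeftRight_injective_of_data : Function.Injective (AlgHom.mulLeftRight R E) := by
  choose c hc using hf
  refine (injective_iff_map_eq_zero _).mpr fun t ht => ?_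
  let Φ : κ → E ⊗[R] Eᵐᵒᵖ →ₗ[R] E := fun k => TensorProduct.lift
    (LinearMap.mk₂ R (fun u v => f k v.unop • u)
      (fun u u' v => smul_add _ _ _) (fun r u v => smul_comm _ _ _)
      (fun u v v' => by simp [add_smul]) (fun r u v => by simp [mul_smul]))
  have h1 : ∀ s, ∑ k, (Φ k s) ⊗ₜ[R] op (x k) = s := by
    intro s
    induction s using TensorProduct.induction_on with
    | zero => simp
    | tmul a b =>
      obtain ⟨b, rfl⟩ := op_surjective b
      simp only [Φ, TensorProduct.lift.tmul, LinearMap.mk₂_apply, unop_op, smul_tmul, ← TensorProduct.tmul_sum]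
      congr 1
      conv_rhs => rw [← hsum b, Finset.op_sum]
      simp
    | add s s' hs hs' => simp only [map_add, add_tmul, Finset.sum_add_distrib, hs, hs']
  have h2 : ∀ k s, Φ k s = pairMap (AlgHom.mulLeftRight R E s) (c k) := by
    intro k s
    induction s using TensorProduct.induction_on with
    | zero => rw [map_zero, map_zero, pairMap_zero]
    | tmul a b =>
      obtain ⟨b, rfl⟩ := op_surjective b
      rw [pairMap_mulLeftRight, hc, ← Algebra.commutes, ← Algebra.smul_def]
      rfl
    | add s s' hs hs' =>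
      rw [map_add, hs, hs', map_add]
      induction c k using TensorProduct.induction_on with
      | zero => simp
      | tmul a b => simp [add_mul]
      | add p q hp hq => simp only [map_add, ← hp, ← hq]; abel
  rw [← h1 t]
  exact Finset.sum_eq_zero fun k _ => by rw [h2, ht, pairMap_zero, zero_tmul]

theorem mulLeftRight_surjective_of_data : Function.Surjective (AlgHom.mulLeftRight R E) := by
  choose c hc using hf
  intro g
  refine ⟨∑ k, (g (x k) ⊗ₜ op 1) * c k, LinearMap.ext fun y => ?_⟩
  rw [map_sum, LinearMap.sum_apply]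
  conv_rhs => rw [← hsum y, map_sum]
  refine Finset.sum_congr rfl fun k _ => ?_
  rw [map_mul, Module.End.mul_apply, hc, map_smul, AlgHom.mulLeftRight_apply, unop_op, mul_one, ← Algebra.commutes,
    ← Algebra.smul_def]

omit hf in
theorem finite_of_data : Module.Finite R E :=
  Module.Finite.of_surjective (Fintype.linearCombination R x) fun y =>
    ⟨fun k => f k y, by simp [Fintype.linearCombination_apply, hsum]⟩

omit hf in
theorem projective_of_data : Module.Projective R E :=
  Module.Projective.of_split (LinearMap.pi f) (Fintype.linearCombination R x)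
    (LinearMap.ext fun y => by simp [Fintype.linearCombination_apply, hsum])

theorem isAzumaya_of_data (hinj : Function.Injective (algebraMap R E)) : IsAzumaya R E :=
  haveI := finite_of_data x f hsum
  haveI := projective_of_data x f hsum
  haveI : FaithfulSMul R E := (faithfulSMul_iff_algebraMap_injective R E).mpr hinj
  { bij := ⟨mulLeftRight_injective_of_data x f hsum hf, mulLeftRight_surjective_of_data x f hsum hf⟩ }

/-- A retraction onto the centre given by multiplications. -/
theorem exists_retraction (hinj : Function.Injective (algebraMap R E)) :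
    ∃ (p : E →ₗ[R] R) (c : E ⊗[R] Eᵐᵒᵖ), p 1 = 1 ∧ ∀ y, AlgHom.mulLeftRight R E c y = algebraMap R E (p y) := by
  choose c hc using hf
  haveI := finite_of_data x f hsum
  let J : Ideal R := Ideal.span (Set.range fun k => f k 1)
  have hle : (⊤ : Submodule R E) ≤ J • (⊤ : Submodule R E) := fun y _ => by
    have hy : y = ∑ k, f k 1 • (x k * y) := by
      conv_lhs => rw [← one_mul y, ← hsum 1, Finset.sum_mul]
      simp only [smul_mul_assoc]
    rw [hy]
    exact Submodule.sum_mem _ fun k _ =>
      Submodule.smul_mem_smul (Ideal.subset_span ⟨k, rfl⟩) Submodule.mem_top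
  obtain ⟨r, hr, hr0⟩ := Submodule.exists_sub_one_mem_and_smul_eq_zero_of_fg_of_le_smul J ⊤
    (Module.finite_def.mp inferInstance) hle
  have hr' : r = 0 := hinj (by rw [map_zero, Algebra.algebraMap_eq_smul_one]; exact hr0 1 Submodule.mem_top)
  rw [hr', zero_sub, neg_mem_iff] at hr
  obtain ⟨l, hl⟩ := (Ideal.mem_span_range_iff_exists_fun).mp hr
  refine ⟨∑ k, l k • f k, ∑ k, l k • c k, by simp [hl], fun y => ?_⟩
  simp only [map_sum, map_smul, LinearMap.sum_apply, LinearMap.smul_apply, hc]
  simp only [smul_eq_mul, map_mul, Algebra.smul_def]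

end Crit

section Descend

variable (A : Type u) [CommRing A] {Z : Type w} [CommRing Z] [Algebra A Z] {E : Type v} [Ring E] [Algebra A E]
  [Algebra Z E] [IsScalarTower A Z E]

/-- Multiplication maps over a smaller ring are multiplication maps over a larger one. -/
theorem exists_mulLeftRight_ext (t : E ⊗[A] Eᵐᵒᵖ) :
    ∃ s : E ⊗[Z] Eᵐᵒᵖ, ∀ y, AlgHom.mulLeftRight Z E s y = AlgHom.mulLeftRight A E t y := by
  induction t using TensorProduct.induction_on with
  | zero => exact ⟨0, fun y => by simp⟩
  | tmul a b => exact ⟨a ⊗ₜ b, fun y => by simp⟩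
  | add t t' ht ht' =>
    obtain ⟨s, hs⟩ := ht; obtain ⟨s', hs'⟩ := ht'
    exact ⟨s + s', fun y => by simp [hs, hs']⟩

/-- Conversely. -/
theorem exists_mulLeftRight_res (s : E ⊗[Z] Eᵐᵒᵖ) :
    ∃ t : E ⊗[A] Eᵐᵒᵖ, ∀ y, AlgHom.mulLeftRight A E t y = AlgHom.mulLeftRight Z E s y := by
  induction s using TensorProduct.induction_on with
  | zero => exact ⟨0, fun y => by simp⟩
  | tmul a b => exact ⟨a ⊗ₜ b, fun y => by simp⟩
  | add t t' ht ht' =>
    obtain ⟨s, hs⟩ := ht; obtain ⟨s', hs'⟩ := ht'
    exact ⟨s + s', fun y => by simp [hs, hs']⟩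

end Descend

section BaseChange

variable {A : Type u} [CommRing A] {E : Type v} [Ring E] [Algebra A E] (A' : Type w) [CommRing A'] [Algebra A A']

theorem lTensor_mulLeftRight_central (t : E ⊗[A] Eᵐᵒᵖ) {c : A' ⊗[A] E} (hc : ∀ y, y * c = c * y) :
    LinearMap.lTensor A' (AlgHom.mulLeftRight A E t) c = c * ((1 : A') ⊗ₜ[A] AlgHom.mulLeftRight A E t 1) := by
  induction t using TensorProduct.induction_on with
  | zero => simp
  | tmul a b =>
    obtain ⟨b, rfl⟩ := op_surjective b
    have h : ∀ s, LinearMap.lTensor A' (AlgHom.mulLeftRight A E (a ⊗ₜ op b)) s =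
        ((1 : A') ⊗ₜ[A] a) * s * ((1 : A') ⊗ₜ[A] b) := fun s => by
      induction s using TensorProduct.induction_on with
      | zero => simp
      | tmul r y => simp
      | add s s' hs hs' => rw [map_add, hs, hs', mul_add, add_mul]
    rw [h, hc, mul_assoc, Algebra.TensorProduct.tmul_mul_tmul, one_mul]
    simp
  | add t t' ht ht' => simp only [map_add, LinearMap.lTensor_add, LinearMap.add_apply, ht, ht', tmul_add, mul_add]

end BaseChange

end QuadCEven
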