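import Groth.Agent.QuadCEven.Basic
import Groth.Agent.QuadCEven.Crit

/-!
The even Clifford algebra of a regular form of even rank is Azumaya over its centre.
-/

open TensorProduct MulOpposite

namespace QuadCEven

open CliffordAlgebra QuadCliff QuadConn QuadSch

universe u v w

variable {R : Type u} [CommRing R] {M : Type v} [AddCommGroup M] [Module R M] [Module.Free R M]
  {Q : QuadraticForm R M}

/-- The even part. -/
abbrev Ev (Q : QuadraticForm R M) : Type (max u v) := ↥(CliffordAlgebra.even Q)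

/-- Its centre. -/
abbrev Zc (Q : QuadraticForm R M) : Type (max u v) := ↥(Subalgebra.center R (Ev Q))

/-- Projection to the even part. -/
noncomputable def toEv (Q : QuadraticForm R M) : CliffordAlgebra Q →ₗ[R] Ev Q :=
  LinearMap.codRestrict (Subalgebra.toSubmodule (CliffordAlgebra.even Q)) (par Q 0) fun x => par_mem Q 0 x

theorem toEv_val (x : CliffordAlgebra Q) : (toEv Q x : CliffordAlgebra Q) = par Q 0 x := rfl

theorem toEv_coe (x : Ev Q) : toEv Q (x : CliffordAlgebra Q) = x := Subtype.ext (par_of_mem x.2)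

theorem finite_ev {n : ℕ} (b : Module.Basis (Fin n) R M) : Module.Finite R (Ev Q) ∧ Module.Projective R (Ev Q) := by
  obtain ⟨hfree, hfin⟩ := free_finite (Q := Q) b
  exact ⟨Module.Finite.of_surjective (toEv Q) fun x => ⟨_, toEv_coe x⟩,
    Module.Projective.of_split (CliffordAlgebra.even Q).val.toLinearMap (toEv Q) (LinearMap.ext toEv_coe)⟩

section Maps

variable (d : ZDatum Q)

/-- `z` in the even part. -/
noncomputable def zEv : Ev Q := ⟨d.z, d.mem⟩

/-- `u • y` in the even part. -/
noncomputable def yEv : Ev Q := ⟨d.u • yEl d, Submodule.smul_mem _ _ (yEl_mem d)⟩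

theorem zEv_mem_center : zEv d ∈ Subalgebra.center R (Ev Q) := d.mem_center

theorem yEv_mem_center : yEv d ∈ Subalgebra.center R (Ev Q) :=
  (mem_center_iff_comm _).mpr fun _ hx => yEl_central d hx

/-- Splitting off the twisted part of a two-sided multiplication. -/
theorem par_mulLeftRight (T : CliffordAlgebra Q ⊗[R] (CliffordAlgebra Q)ᵐᵒᵖ) :
    ∃ (t : Ev Q ⊗[R] (Ev Q)ᵐᵒᵖ) (G : Ev Q →ₗ[R] Ev Q),
      (∀ x, G (zEv d * x) = (d.a • 1 - zEv d) * G x) ∧
      ∀ x : Ev Q, par Q 0 (AlgHom.mulLeftRight R (CliffordAlgebra Q) T x) =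
        ((AlgHom.mulLeftRight R (Ev Q) t x + G x : Ev Q) : CliffordAlgebra Q) := by
  induction T using TensorProduct.induction_on with
  | zero => exact ⟨0, 0, fun x => by simp, fun x => by simp⟩
  | add T T' hT hT' =>
    obtain ⟨t, G, hG, h⟩ := hT; obtain ⟨t', G', hG', h'⟩ := hT'
    refine ⟨t + t', G + G', fun x => by rw [LinearMap.add_apply, hG, hG', ← mul_add]; rfl, fun x => ?_⟩
    simp only [map_add, LinearMap.add_apply, h, h', Subalgebra.coe_add]
    abel
  | tmul l r =>
    obtain ⟨r, rfl⟩ := op_surjective r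
    let G : Ev Q →ₗ[R] Ev Q := (toEv Q).comp
      (((LinearMap.mulLeft R (par Q 1 l)).comp (LinearMap.mulRight R (par Q 1 r))).comp
        (CliffordAlgebra.even Q).val.toLinearMap)
    have m : ∀ {i j : ZMod 2} {p q : CliffordAlgebra Q}, p ∈ evenOdd Q i → q ∈ evenOdd Q j →
        p * q ∈ evenOdd Q (i + j) := fun hp hq => SetLike.mul_mem_graded hp hq
    have hG : ∀ x : Ev Q, (G x : CliffordAlgebra Q) = par Q 1 l * (x * par Q 1 r) := fun x => by
      show par Q 0 (par Q 1 l * ((x : CliffordAlgebra Q) * par Q 1 r)) = _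
      exact par_of_mem (by
        simpa [show (1 + 1 : ZMod 2) = 0 by decide] using m (par_mem Q 1 l) (m x.2 (par_mem Q 1 r)))
    refine ⟨toEv Q l ⊗ₜ op (toEv Q r), G, fun x => Subtype.ext ?_, fun x => ?_⟩
    · show (G (zEv d * x) : CliffordAlgebra Q) = (d.a • (1 : CliffordAlgebra Q) - d.z) * (G x : CliffordAlgebra Q)
      rw [hG, hG]
      show par Q 1 l * (d.z * (x : CliffordAlgebra Q) * par Q 1 r) = _
      rw [mul_assoc d.z, ← mul_assoc (par Q 1 l) d.z, z_mul_odd d (par_mem Q 1 l), mul_assoc]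
    · rw [AlgHom.mulLeftRight_apply, AlgHom.mulLeftRight_apply, unop_op, unop_op, Subalgebra.coe_add, hG]
      show par Q 0 (l * (x : CliffordAlgebra Q) * r) = par Q 0 l * (x : CliffordAlgebra Q) * par Q 0 r + _
      conv_lhs => rw [← par_add_par Q l, ← par_add_par Q r]
      simp only [add_mul, mul_add, map_add, ← mul_assoc]
      have hx : (x : CliffordAlgebra Q) ∈ evenOdd Q 0 := x.2
      rw [par_of_mem (i := 0) (x := par Q 0 l * (x : CliffordAlgebra Q) * par Q 0 r)
          (by simpa using m (m (par_mem Q 0 l) hx) (par_mem Q 0 r)),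
        par_eq_zero (i := 1) (x := par Q 1 l * (x : CliffordAlgebra Q) * par Q 0 r)
          (by simpa using m (m (par_mem Q 1 l) hx) (par_mem Q 0 r)) (by decide),
        par_eq_zero (i := 1) (x := par Q 0 l * (x : CliffordAlgebra Q) * par Q 1 r)
          (by simpa using m (m (par_mem Q 0 l) hx) (par_mem Q 1 r)) (by decide),
        par_of_mem (i := 0) (x := par Q 1 l * (x : CliffordAlgebra Q) * par Q 1 r)
          (by simpa [show (1 + 1 : ZMod 2) = 0 by decide] using m (m (par_mem Q 1 l) hx) (par_mem Q 1 r))]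
      abel

/-- Maps commuting with `z` are two-sided multiplications, up to `u`. -/
theorem smul_mem_range (hsurj : Function.Surjective (AlgHom.mulLeftRight R (CliffordAlgebra Q)))
    (f : Module.End R (Ev Q)) (hf : ∀ x, f (zEv d * x) = zEv d * f x) :
    d.u • f ∈ (AlgHom.mulLeftRight R (Ev Q)).range := by
  obtain ⟨T, hT⟩ := hsurj ((CliffordAlgebra.even Q).val.toLinearMap.comp (f.comp (toEv Q)))
  obtain ⟨t, G, hG, h⟩ := par_mulLeftRight d T
  have hf' : ∀ x, f x = AlgHom.mulLeftRight R (Ev Q) t x + G x := fun x => Subtype.ext (by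
    rw [← h x, hT]
    show (f x : CliffordAlgebra Q) = par Q 0 (f (toEv Q (x : CliffordAlgebra Q)) : CliffordAlgebra Q)
    rw [toEv_coe, par_of_mem (f x).2])
  have ht : ∀ (t : Ev Q ⊗[R] (Ev Q)ᵐᵒᵖ) x,
      AlgHom.mulLeftRight R (Ev Q) t (zEv d * x) = zEv d * AlgHom.mulLeftRight R (Ev Q) t x := by
    intro t x
    induction t using TensorProduct.induction_on generalizing x with
    | zero => simp
    | tmul l r =>
      rw [AlgHom.mulLeftRight_apply, AlgHom.mulLeftRight_apply, ← mul_assoc l,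
        Subalgebra.mem_center_iff.mp (zEv_mem_center d) l]
      simp only [mul_assoc]
    | add t t' h₁ h₂ => simp only [map_add, LinearMap.add_apply, h₁, h₂, mul_add]
  refine ⟨d.u • t, LinearMap.ext fun x => ?_⟩
  show AlgHom.mulLeftRight R (Ev Q) (d.u • t) x = d.u • f x
  rw [map_smul, LinearMap.smul_apply, hf' x, smul_add, left_eq_add]
  have h1 := hf x
  rw [hf', hf' x, ht, hG, mul_add, add_right_inj, sub_mul, smul_mul_assoc, one_mul] at h1
  refine Subtype.ext ?_
  refine smul_eq_zero_of_wEl d ?_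
  have h2 := congrArg Subtype.val h1
  simp only [AddSubgroupClass.coe_sub, Subalgebra.coe_smul, Subalgebra.coe_mul] at h2
  rw [wEl, sub_mul, smul_mul_assoc, one_mul, two_mul, add_mul, ← sub_sub,
    show d.a • (G x : CliffordAlgebra Q) - d.z * G x = d.z * G x from h2, sub_self]

variable {n : ℕ} (b : Module.Basis (Fin n) R M) (hQ : QuadGrp.IsRegular Q)

include b hQ

/-- The `Z`-valued functional attached to an `R`-valued one. -/
theorem exists_functional (φ : Ev Q →ₗ[R] R) :
    ∃ g : Module.End R (Ev Q), (∀ x, g x ∈ Subalgebra.center R (Ev Q)) ∧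
      (∀ x, g (zEv d * x) = zEv d * g x) ∧
      ∀ x, g x = yEv d * (φ x • (d.a • 1 - zEv d) - φ (zEv d * x) • 1) := by
  let g : Module.End R (Ev Q) := (LinearMap.mulLeft R (yEv d)).comp
    (φ.smulRight (d.a • (1 : Ev Q) - zEv d) - (φ.comp (LinearMap.mulLeft R (zEv d))).smulRight 1)
  refine ⟨g, fun x => Subalgebra.mul_mem _ (yEv_mem_center d) (Subalgebra.sub_mem _ (Subalgebra.smul_mem _
    (Subalgebra.sub_mem _ (Subalgebra.smul_mem _ (Subalgebra.one_mem _) _) (zEv_mem_center d)) _)
    (Subalgebra.smul_mem _ (Subalgebra.one_mem _) _)), fun x => ?_, fun x => rfl⟩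
  obtain ⟨r, hr⟩ := z_mul_z d b hQ
  have hzz : zEv d * zEv d = d.a • zEv d - r • 1 := Subtype.ext (by exact hr)
  show yEv d * (φ (zEv d * x) • (d.a • 1 - zEv d) - φ (zEv d * (zEv d * x)) • 1) =
    zEv d * (yEv d * (φ x • (d.a • 1 - zEv d) - φ (zEv d * x) • 1))
  rw [← mul_assoc (zEv d) (yEv d), Subalgebra.mem_center_iff.mp (yEv_mem_center d) (zEv d), mul_assoc (yEv d) (zEv d)]
  congr 1
  rw [← mul_assoc, hzz, sub_mul, smul_mul_assoc, smul_mul_assoc, one_mul, map_sub, map_smul, map_smul, mul_sub,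
    mul_smul_comm, mul_smul_comm, mul_sub, mul_smul_comm, mul_one, hzz]
  simp only [smul_eq_mul, sub_smul, smul_sub, smul_smul]
  rw [mul_comm (φ (zEv d * x)) d.a, mul_comm (φ x) r]
  abel

end Maps

variable {n : ℕ} (b : Module.Basis (Fin n) R M) (hQ : QuadGrp.IsRegular Q)
  {N : ℕ} (d : Fin N → ZDatum Q) (hd : Ideal.span (Set.range fun i => (d i).u) = ⊤)

include b hQ hd

/-- A dual basis with central values given by two-sided multiplications. -/
theorem exists_data : ∃ (κ : Type) (_ : Fintype κ) (x : κ → Ev Q) (f : κ → Ev Q →ₗ[R] Ev Q),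
    (∀ k y, f k y ∈ Subalgebra.center R (Ev Q)) ∧ (∀ k, f k ∈ (AlgHom.mulLeftRight R (Ev Q)).range) ∧
      ∀ y, ∑ k, f k y * x k = y := by
  classical
  obtain ⟨hfin, hproj⟩ := finite_ev (Q := Q) b
  obtain ⟨m, π, σ, -, -, hπσ⟩ := Module.Finite.exists_comp_eq_id_of_projective R (Ev Q)
  let x : Fin m → Ev Q := fun k => π (Pi.single k 1)
  let φ : Fin m → Ev Q →ₗ[R] R := fun k => (LinearMap.proj k).comp σ
  have hφ : ∀ y, ∑ k, φ k y • x k = y := fun y => by
    calc ∑ k, φ k y • x k = π (∑ k, σ y k • Pi.single k 1) := by simp [map_sum, map_smul, x, φ]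
      _ = π (σ y) := by rw [← pi_eq_sum_univ' (σ y)]
      _ = y := LinearMap.congr_fun hπσ y
  choose g hg1 hg2 hg3 using fun (i : Fin N) (k : Fin m) => exists_functional (d i) b hQ (φ k)
  have h3 := pow_span_top (fun i => (d i).u) hd 3
  obtain ⟨c, hc⟩ := Ideal.mem_span_range_iff_exists_fun.mp ((Ideal.eq_top_iff_one _).mp h3)
  refine ⟨Fin N × Fin m, inferInstance, fun p => x p.2, fun p => (c p.1 * (d p.1).u) • g p.1 p.2,
    fun p y => Subalgebra.smul_mem _ (hg1 _ _ y) _, fun p => ?_, fun y => ?_⟩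
  · show (c p.1 * (d p.1).u) • g p.1 p.2 ∈ _
    rw [mul_smul]
    exact Subalgebra.smul_mem _ (smul_mem_range (d p.1) (mulLeftRight_surjective b hQ d hd) _ (hg2 _ _)) _
  · rw [Fintype.sum_prod_type]
    calc ∑ i, ∑ k, ((c i * (d i).u) • g i k) y * x k = ∑ i, (c i * (d i).u ^ 3) • y := by
          refine Finset.sum_congr rfl fun i _ => ?_
          simp only [LinearMap.smul_apply, smul_mul_assoc, ← Finset.smul_sum, hg3, mul_assoc, ← Finset.mul_sum,
            sub_mul, Finset.sum_sub_distrib, one_mul]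
          have e : ∑ k, φ k y • ((d i).a • x k - zEv (d i) * x k) = (d i).a • y - zEv (d i) * y := by
            conv_rhs => rw [← hφ y]
            rw [Finset.smul_sum, Finset.mul_sum, ← Finset.sum_sub_distrib]
            exact Finset.sum_congr rfl fun k _ => by rw [smul_sub, smul_comm, mul_smul_comm]
          rw [e, hφ (zEv (d i) * y)]
          refine Subtype.ext ?_
          show (c i * (d i).u) • (((d i).u • yEl (d i)) *
            ((d i).a • (y : CliffordAlgebra Q) - (d i).z * y - (d i).z * y)) = (c i * (d i).u ^ 3) • (y : CliffordAlgebra Q)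
          have hw : (d i).a • (y : CliffordAlgebra Q) - (d i).z * y - (d i).z * y = wEl (d i) * y := by
            rw [wEl, sub_mul, smul_mul_assoc, one_mul, two_mul, add_mul, sub_sub]
          rw [hw, smul_mul_assoc, ← mul_assoc, yEl_mul_wEl, smul_mul_assoc, one_mul, smul_smul, smul_smul]
          ring_nf
      _ = y := by rw [← Finset.sum_smul, hc, one_smul]

/-- The even part is Azumaya over its centre. -/
theorem isAzumaya :
    letI : Algebra (Zc Q) (Ev Q) :=
      (Subalgebra.center R (Ev Q)).val.toRingHom.toAlgebra'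
        (fun c x => (Subalgebra.mem_center_iff.mp c.2 x).symm)
    IsAzumaya (Zc Q) (Ev Q) := by
  letI : Algebra (Zc Q) (Ev Q) :=
    (Subalgebra.center R (Ev Q)).val.toRingHom.toAlgebra' (fun c x => (Subalgebra.mem_center_iff.mp c.2 x).symm)
  haveI : @IsScalarTower R (Zc Q) (Ev Q) _ Algebra.toSMul _ := IsScalarTower.of_algebraMap_eq fun r => rfl
  obtain ⟨κ, _, x, f, hc, hm, hs⟩ := exists_data b hQ d hd
  choose t ht using hm
  have hlin : ∀ k (c : Zc Q) y, f k (c • y) = c • f k y := fun k c y => by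
    obtain ⟨s, hs'⟩ := exists_mulLeftRight_ext R (Z := Zc Q) (t k)
    rw [← ht k]
    show AlgHom.mulLeftRight R (Ev Q) (t k) (c • y) = c • AlgHom.mulLeftRight R (Ev Q) (t k) y
    rw [← hs', ← hs', map_smul]
  refine isAzumaya_of_data x (fun k =>
    { toFun := fun y => ⟨f k y, hc k y⟩
      map_add' := fun y y' => Subtype.ext (map_add (f k) y y')
      map_smul' := fun c y => Subtype.ext (hlin k c y) }) (fun y => hs y) (fun k => ?_) Subtype.val_injective
  obtain ⟨s, hs'⟩ := exists_mulLeftRight_ext R (Z := Zc Q) (t k)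
  exact ⟨s, fun y => (hs' y).trans (LinearMap.congr_fun (ht k) y)⟩

/-- A retraction onto the centre by two-sided multiplications. -/
theorem exists_centreProj : ∃ π : Module.End R (Ev Q),
    π ∈ (AlgHom.mulLeftRight R (Ev Q)).range ∧ π 1 = 1 ∧ ∀ y, π y ∈ Subalgebra.center R (Ev Q) := by
  letI : Algebra (Zc Q) (Ev Q) :=
    (Subalgebra.center R (Ev Q)).val.toRingHom.toAlgebra' (fun c x => (Subalgebra.mem_center_iff.mp c.2 x).symm)
  haveI : @IsScalarTower R (Zc Q) (Ev Q) _ Algebra.toSMul _ := IsScalarTower.of_algebraMap_eq fun r => rfl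
  obtain ⟨κ, _, x, f, hc, hm, hs⟩ := exists_data b hQ d hd
  choose t ht using hm
  have hlin : ∀ k (c : Zc Q) y, f k (c • y) = c • f k y := fun k c y => by
    obtain ⟨s, hs'⟩ := exists_mulLeftRight_ext R (Z := Zc Q) (t k)
    rw [← ht k]
    show AlgHom.mulLeftRight R (Ev Q) (t k) (c • y) = c • AlgHom.mulLeftRight R (Ev Q) (t k) y
    rw [← hs', ← hs', map_smul]
  obtain ⟨p, c, hp1, hpc⟩ := exists_retraction x (fun k =>
    ({ toFun := fun y => ⟨f k y, hc k y⟩
       map_add' := fun y y' => Subtype.ext (map_add (f k) y y')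
       map_smul' := fun c y => Subtype.ext (hlin k c y) } : Ev Q →ₗ[Zc Q] Zc Q)) (fun y => hs y) (fun k => by
      obtain ⟨s, hs'⟩ := exists_mulLeftRight_ext R (Z := Zc Q) (t k)
      exact ⟨s, fun y => (hs' y).trans (LinearMap.congr_fun (ht k) y)⟩) Subtype.val_injective
  obtain ⟨t', ht'⟩ := exists_mulLeftRight_res R c
  exact ⟨_, ⟨t', rfl⟩, by show AlgHom.mulLeftRight R (Ev Q) t' 1 = 1; rw [ht', hpc, hp1, map_one],
    fun y => by show AlgHom.mulLeftRight R (Ev Q) t' y ∈ _; rw [ht', hpc]; exact (p y).2⟩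

theorem finite_projective_centre : Module.Finite R (Zc Q) ∧ Module.Projective R (Zc Q) := by
  obtain ⟨π, ⟨t, ht⟩, h1, hπ⟩ := exists_centreProj b hQ d hd
  obtain ⟨hfin, hproj⟩ := finite_ev (Q := Q) b
  let p : Ev Q →ₗ[R] Zc Q := LinearMap.codRestrict (Subalgebra.toSubmodule (Subalgebra.center R (Ev Q))) π hπ
  have key : ∀ z : Zc Q, p (z : Ev Q) = z := fun z => Subtype.ext (by
    show π (z : Ev Q) = z
    have hz : ∀ s : Ev Q ⊗[R] (Ev Q)ᵐᵒᵖ, AlgHom.mulLeftRight R (Ev Q) s (z : Ev Q) =
        (z : Ev Q) * AlgHom.mulLeftRight R (Ev Q) s 1 := fun s => by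
      induction s using TensorProduct.induction_on with
      | zero => simp
      | tmul l r =>
        rw [AlgHom.mulLeftRight_apply, AlgHom.mulLeftRight_apply, Subalgebra.mem_center_iff.mp z.2 l, mul_one,
          mul_assoc]
      | add s s' hs hs' => simp only [map_add, LinearMap.add_apply, hs, hs', mul_add]
    rw [← ht] at h1 ⊢
    exact (hz t).trans (by rw [show AlgHom.mulLeftRight R (Ev Q) t 1 = 1 from h1, mul_one]))
  exact ⟨Module.Finite.of_surjective p fun z => ⟨_, key z⟩,
    Module.Projective.of_split (Subalgebra.center R (Ev Q)).val.toLinearMap p (LinearMap.ext key)⟩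

variable (A : Type w) [CommRing A] [Algebra R A]

/-- The centre commutes with any base change. -/
theorem centre_baseChange :
    ∃ θ : A ⊗[R] Zc Q →ₐ[A] ↥(Subalgebra.center A (A ⊗[R] Ev Q)), Function.Bijective θ := by
  obtain ⟨π, ⟨t, ht⟩, h1, hπ⟩ := exists_centreProj b hQ d hd
  let p : Ev Q →ₗ[R] Zc Q := LinearMap.codRestrict (Subalgebra.toSubmodule (Subalgebra.center R (Ev Q))) π hπ
  let ψ : A ⊗[R] Zc Q →ₐ[A] A ⊗[R] Ev Q :=
    Algebra.TensorProduct.map (AlgHom.id A A) (Subalgebra.center R (Ev Q)).val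
  have hcen : ∀ s, ψ s ∈ Subalgebra.center A (A ⊗[R] Ev Q) := fun s => by
    induction s using TensorProduct.induction_on with
    | zero => rw [map_zero]; exact Subalgebra.zero_mem _
    | tmul a z =>
      refine Subalgebra.mem_center_iff.mpr fun y => ?_
      induction y using TensorProduct.induction_on with
      | zero => rw [zero_mul, mul_zero]
      | tmul a' e =>
        rw [Algebra.TensorProduct.map_tmul, Algebra.TensorProduct.tmul_mul_tmul, Algebra.TensorProduct.tmul_mul_tmul,
          AlgHom.id_apply, mul_comm]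
        exact congrArg _ (Subalgebra.mem_center_iff.mp z.2 e)
      | add y y' hy hy' => rw [add_mul, mul_add, hy, hy']
    | add s s' hs hs' => rw [map_add]; exact Subalgebra.add_mem _ hs hs'
  have hπc : ∀ c : A ⊗[R] Ev Q, c ∈ Subalgebra.center A (A ⊗[R] Ev Q) → LinearMap.lTensor A π c = c :=
    fun c hc => by
      rw [← ht]
      refine (lTensor_mulLeftRight_central A t (Subalgebra.mem_center_iff.mp hc)).trans ?_
      rw [← ht] at h1
      rw [show AlgHom.mulLeftRight R (Ev Q) t 1 = 1 from h1, ← Algebra.TensorProduct.one_def, mul_one]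
  have hψ : ∀ c, ψ (LinearMap.lTensor A p c) = LinearMap.lTensor A π c := fun c => by
    induction c using TensorProduct.induction_on with
    | zero => simp
    | tmul a e => rfl
    | add c c' hc hc' => simp only [map_add, hc, hc']
  refine ⟨ψ.codRestrict _ hcen, fun s s' h => ?_, fun c => ⟨LinearMap.lTensor A p c.1,
    Subtype.ext ((hψ _).trans (hπc _ c.2))⟩⟩
  have key : ∀ s, LinearMap.lTensor A p (ψ s) = s := fun s => by
    induction s using TensorProduct.induction_on with
    | zero => simp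
    | tmul a z =>
      show a ⊗ₜ[R] p (z : Ev Q) = a ⊗ₜ z
      refine congrArg _ (Subtype.ext ?_)
      have hz : ∀ s : Ev Q ⊗[R] (Ev Q)ᵐᵒᵖ, AlgHom.mulLeftRight R (Ev Q) s (z : Ev Q) =
          (z : Ev Q) * AlgHom.mulLeftRight R (Ev Q) s 1 := fun s => by
        induction s using TensorProduct.induction_on with
        | zero => simp
        | tmul l r =>
          rw [AlgHom.mulLeftRight_apply, AlgHom.mulLeftRight_apply, Subalgebra.mem_center_iff.mp z.2 l, mul_one,
            mul_assoc]
        | add s s' hs hs' => simp only [map_add, LinearMap.add_apply, hs, hs', mul_add]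
      show π (z : Ev Q) = z
      rw [← ht] at h1 ⊢
      exact (hz t).trans (by rw [show AlgHom.mulLeftRight R (Ev Q) t 1 = 1 from h1, mul_one])
    | add s s' hs hs' => rw [map_add, map_add, hs, hs']
  rw [← key s, ← key s']
  exact congrArg (LinearMap.lTensor A p) (congrArg Subtype.val h)

end QuadCEven
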