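import Groth.Agent.QuadSch.CliffBC
import Groth.Agent.QuadConnLib.Center

/-!
Global structure of the Clifford algebra of a regular form of even rank, through the family of
`QuadConn.ZDatum`.
-/

namespace QuadCEven

open CliffordAlgebra QuadCliff QuadConn QuadSch

universe u v

variable {R : Type u} [CommRing R] {M : Type v} [AddCommGroup M] [Module R M] {Q : QuadraticForm R M}

local notation "D" => contractLeft (R := R) (M := M) (Q := Q)

variable [Module.Free R M]

section Datum

variable (d : ZDatum Q)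

/-- The element `a - 2z`, anticommuting with vectors. -/
noncomputable def wEl : CliffordAlgebra Q := d.a • (1 : CliffordAlgebra Q) - 2 * d.z

/-- Its even quasi-inverse. -/
noncomputable def yEl : CliffordAlgebra Q := par Q 0 d.y

theorem wEl_mem : wEl d ∈ evenOdd Q 0 :=
  Submodule.sub_mem _ (Submodule.smul_mem _ _ (SetLike.one_mem_graded _))
    (by rw [two_mul]; exact Submodule.add_mem _ d.mem d.mem)

theorem ι_mul_wEl (v : M) : ι Q v * wEl d = -(wEl d * ι Q v) := by
  have h : ι Q v * d.z = d.a • ι Q v - d.z * ι Q v := eq_sub_of_add_eq (d.rel v)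
  rw [wEl, mul_sub, mul_smul_comm, mul_one, sub_mul, smul_mul_assoc, one_mul,
    show ι Q v * (2 * d.z) = 2 * (ι Q v * d.z) by simp only [two_mul, mul_add], h]
  noncomm_ring

theorem wEl_mul (x : CliffordAlgebra Q) : wEl d * x = involute x * wEl d := by
  induction x using CliffordAlgebra.left_induction with
  | algebraMap r => rw [AlgHom.commutes, Algebra.commutes]
  | add x y hx hy => rw [map_add, mul_add, add_mul, hx, hy]
  | ι_mul y a ih =>
    rw [map_mul, involute_ι, ← mul_assoc,
      show wEl d * ι Q a = -(ι Q a * wEl d) by rw [ι_mul_wEl, neg_neg], neg_mul, mul_assoc, ih, neg_mul, neg_mul, mul_assoc]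

theorem wEl_comm {x : CliffordAlgebra Q} (hx : x ∈ evenOdd Q 0) : wEl d * x = x * wEl d := by
  rw [wEl_mul, involute_eq_of_mem_even hx]

theorem yEl_mem : yEl d ∈ evenOdd Q 0 := par_mem Q 0 _

theorem wEl_mul_yEl : wEl d * yEl d = d.u • 1 := by
  have h0 : wEl d * par Q 0 d.y ∈ evenOdd Q 0 := by
    simpa using SetLike.mul_mem_graded (wEl_mem d) (par_mem Q 0 d.y)
  have h1 : wEl d * par Q 1 d.y ∈ evenOdd Q 1 := by
    simpa using SetLike.mul_mem_graded (wEl_mem d) (par_mem Q 1 d.y)
  refine (decomp_unique h0 (Submodule.smul_mem _ _ (SetLike.one_mem_graded _)) h1 (Submodule.zero_mem _) ?_).1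
  rw [← mul_add, par_add_par, add_zero]
  exact d.inv

theorem yEl_mul_wEl : yEl d * wEl d = d.u • 1 := by
  rw [← wEl_comm d (yEl_mem d), wEl_mul_yEl]

theorem wEl_involute (x : CliffordAlgebra Q) : wEl d * x * yEl d = d.u • involute x := by
  rw [wEl_mul, mul_assoc, wEl_mul_yEl, mul_smul_comm, mul_one]

/-- Cancelling `wEl` costs a factor `u`. -/
theorem smul_eq_zero_of_wEl {x : CliffordAlgebra Q} (h : wEl d * x = 0) : d.u • x = 0 := by
  calc d.u • x = yEl d * (wEl d * x) := by rw [← mul_assoc, yEl_mul_wEl, smul_mul_assoc, one_mul]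
    _ = 0 := by rw [h, mul_zero]

theorem yEl_central {x : CliffordAlgebra Q} (hx : x ∈ evenOdd Q 0) :
    (d.u • yEl d) * x = x * (d.u • yEl d) := by
  rw [smul_mul_assoc, mul_smul_comm, ← sub_eq_zero, ← smul_sub]
  refine smul_eq_zero_of_wEl d ?_
  rw [mul_sub, ← mul_assoc, wEl_mul_yEl, ← mul_assoc, wEl_comm d hx, mul_assoc x, wEl_mul_yEl, smul_mul_assoc,
    mul_smul_comm, one_mul, mul_one, sub_self]

theorem z_mul_odd {x : CliffordAlgebra Q} (hx : x ∈ evenOdd Q 1) :
    x * d.z = (d.a • (1 : CliffordAlgebra Q) - d.z) * x := by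
  have hv : ∀ v, ι Q v * d.z = (d.a • (1 : CliffordAlgebra Q) - d.z) * ι Q v := fun v => by
    rw [sub_mul, smul_mul_assoc, one_mul]
    exact eq_sub_of_add_eq (d.rel v)
  induction x, hx using odd_induction with
  | ι v => exact hv v
  | add x y _ _ hx hy => rw [add_mul, mul_add, hx, hy]
  | ι_mul_ι_mul v w x _ hx =>
    have hvw : (d.a • (1 : CliffordAlgebra Q) - d.z) * (ι Q v * ι Q w) =
        (ι Q v * ι Q w) * (d.a • (1 : CliffordAlgebra Q) - d.z) := by
      rw [sub_mul, mul_sub, smul_mul_assoc, mul_smul_comm, one_mul, mul_one, d.central (ι_mul_ι_mem_evenOdd_zero Q v w)]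
    rw [mul_assoc, hx, ← mul_assoc, ← hvw, mul_assoc]

theorem z_mul_z {n : ℕ} (b : Module.Basis (Fin n) R M) (hQ : QuadGrp.IsRegular Q) :
    ∃ r : R, d.z * d.z = d.a • d.z - r • 1 := by
  obtain ⟨r, hr⟩ := eq_algebraMap_of_superCentral b hQ (d.a • d.z - d.z * d.z) fun v => by
    have h : ι Q v * d.z = d.a • ι Q v - d.z * ι Q v := eq_sub_of_add_eq (d.rel v)
    rw [involute_eq_of_mem_even (Submodule.sub_mem _ (Submodule.smul_mem _ _ d.mem)
      (by simpa using SetLike.mul_mem_graded d.mem d.mem))]
    rw [mul_sub, mul_smul_comm, ← mul_assoc, h, sub_mul, smul_mul_assoc, mul_assoc d.z (ι Q v), h, mul_sub,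
      mul_smul_comm, sub_mul, smul_mul_assoc, smul_sub, mul_assoc]
    abel
  exact ⟨r, by rw [← Algebra.algebraMap_eq_smul_one, ← hr]; abel⟩

end Datum

theorem pow_span_top {κ : Type*} (u : κ → R) (hu : Ideal.span (Set.range u) = ⊤) (k : ℕ) :
    Ideal.span (Set.range fun i => u i ^ k) = ⊤ := by
  have h := Ideal.span_pow_eq_top _ hu k
  rwa [← Set.range_comp] at h

theorem eq_zero_of_forall_smul {N : Type*} [AddCommGroup N] [Module R N] {κ : Type*} (u : κ → R)
    (hu : Ideal.span (Set.range u) = ⊤) {x : N} (h : ∀ i, u i • x = 0) : x = 0 := by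
  have hle : Ideal.span (Set.range u) ≤ LinearMap.ker (LinearMap.toSpanSingleton R N x) :=
    Submodule.span_le.mpr (by rintro _ ⟨i, rfl⟩; exact h i)
  rw [hu] at hle
  simpa using hle (Submodule.mem_top (x := 1))

theorem mem_of_forall_smul {N : Type*} [AddCommGroup N] [Module R N] (P : Submodule R N) {κ : Type*} (u : κ → R)
    (hu : Ideal.span (Set.range u) = ⊤) {x : N} (h : ∀ i, u i • x ∈ P) : x ∈ P := by
  have hle : Ideal.span (Set.range u) ≤ P.comap (LinearMap.toSpanSingleton R N x) :=
    Submodule.span_le.mpr (by rintro _ ⟨i, rfl⟩; exact h i)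
  rw [hu] at hle
  simpa using hle (Submodule.mem_top (x := 1))

section Global

variable {n : ℕ} (b : Module.Basis (Fin n) R M) (hQ : QuadGrp.IsRegular Q)

include b hQ

/-- Left and right multiplications give all endomorphisms as soon as they give the grade involution. -/
theorem mulLeftRight_surjective_of_involute
    (hinv : (involute : CliffordAlgebra Q →ₐ[R] CliffordAlgebra Q).toLinearMap ∈
      (AlgHom.mulLeftRight R (CliffordAlgebra Q)).range) :
    Function.Surjective (AlgHom.mulLeftRight R (CliffordAlgebra Q)) := by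
  obtain ⟨B, hB⟩ := exists_toExterior (Q := Q) b
  let e := changeFormEquiv hB
  let S : Subalgebra R (Module.End R (ExteriorAlgebra R M)) :=
    (AlgHom.mulLeftRight R (CliffordAlgebra Q)).range.comap (e.conjAlgEquiv R).symm.toAlgHom
  have hmem : ∀ T : Module.End R (ExteriorAlgebra R M), T ∈ S ↔ e.symm.toLinearMap.comp (T.comp e.toLinearMap) ∈
      (AlgHom.mulLeftRight R (CliffordAlgebra Q)).range := by
    intro T
    have : (e.conjAlgEquiv R).symm T = e.symm.toLinearMap.comp (T.comp e.toLinearMap) := by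
      rw [AlgEquiv.symm_apply_eq]
      refine LinearMap.ext fun x => ?_
      simp [LinearEquiv.conjAlgEquiv]
    show (e.conjAlgEquiv R).symm T ∈ (AlgHom.mulLeftRight R (CliffordAlgebra Q)).range ↔ _
    rw [this]
  have hL : ∀ a : CliffordAlgebra Q, LinearMap.mulLeft R a ∈ (AlgHom.mulLeftRight R (CliffordAlgebra Q)).range :=
    fun a => ⟨TensorProduct.tmul R a (MulOpposite.op 1), LinearMap.ext fun x => by simp [AlgHom.mulLeftRight_apply]⟩
  have hR : ∀ a : CliffordAlgebra Q, LinearMap.mulRight R a ∈ (AlgHom.mulLeftRight R (CliffordAlgebra Q)).range :=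
    fun a => ⟨TensorProduct.tmul R 1 (MulOpposite.op a), LinearMap.ext fun x => by simp [AlgHom.mulLeftRight_apply]⟩
  have hD : ∀ d, D d ∈ (AlgHom.mulLeftRight R (CliffordAlgebra Q)).range := by
    intro d
    obtain ⟨v, rfl⟩ := hQ.2 d
    have : D (QuadraticMap.polarBilin Q v) = LinearMap.mulLeft R (ι Q v) -
        LinearMap.mulRight R (ι Q v) * (involute : CliffordAlgebra Q →ₐ[R] CliffordAlgebra Q).toLinearMap :=
      LinearMap.ext fun x => by rw [← ι_mul_sub]; rfl
    rw [this]
    exact Subalgebra.sub_mem _ (hL _) (Subalgebra.mul_mem _ (hR _) hinv)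
  have htop : S = ⊤ := by
    refine endSubalgebra_eq_top b S (fun m => ?_) (fun d => ?_)
    · rw [hmem]
      have : e.symm.toLinearMap.comp ((LinearMap.mulLeft R (ExteriorAlgebra.ι R m)).comp e.toLinearMap) =
          LinearMap.mulLeft R (ι Q m) + D (B m) := by
        refine LinearMap.ext fun x => e.injective ?_
        simp only [LinearMap.comp_apply, LinearEquiv.coe_coe, LinearEquiv.apply_symm_apply,
          LinearMap.mulLeft_apply, LinearMap.add_apply, map_add]
        show _ = changeForm hB (ι Q m * x) + changeForm hB (D (B m) x)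
        rw [changeForm_ι_mul, changeForm_contractLeft, sub_add_cancel]
        rfl
      rw [this]
      exact Subalgebra.add_mem _ (hL _) (hD _)
    · rw [hmem]
      have : e.symm.toLinearMap.comp ((dL d).comp e.toLinearMap) = D d := by
        refine LinearMap.ext fun x => e.injective ?_
        simp only [LinearMap.comp_apply, LinearEquiv.coe_coe, LinearEquiv.apply_symm_apply]
        exact (changeForm_contractLeft hB d x).symm
      rw [this]
      exact hD d
  intro T
  have hT : e.conjAlgEquiv R T ∈ S := htop ▸ Algebra.mem_top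
  have : (e.conjAlgEquiv R).symm (e.conjAlgEquiv R T) ∈ (AlgHom.mulLeftRight R (CliffordAlgebra Q)).range := hT
  rw [AlgEquiv.symm_apply_apply] at this
  exact this

variable {N : ℕ} (d : Fin N → ZDatum Q) (hd : Ideal.span (Set.range fun i => (d i).u) = ⊤)

include hd

theorem mulLeftRight_surjective : Function.Surjective (AlgHom.mulLeftRight R (CliffordAlgebra Q)) := by
  refine mulLeftRight_surjective_of_involute b hQ ?_
  refine mem_of_forall_smul (Subalgebra.toSubmodule (AlgHom.mulLeftRight R (CliffordAlgebra Q)).range) _ hd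
    fun i => ?_
  exact ⟨TensorProduct.tmul R (wEl (d i)) (MulOpposite.op (yEl (d i))), LinearMap.ext fun x => by
    simp [AlgHom.mulLeftRight_apply, wEl_involute]⟩

omit b hQ in
/-- Something commuting with all `z i` is even. -/
theorem mem_even_of_comm {x : CliffordAlgebra Q} (h : ∀ i, (d i).z * x = x * (d i).z) : x ∈ evenOdd Q 0 := by
  suffices h1 : par Q 1 x = 0 by
    rw [← par_add_par Q x, h1, add_zero]
    exact par_mem Q 0 x
  refine eq_zero_of_forall_smul _ hd fun i => smul_eq_zero_of_wEl (d i) ?_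
  have h' := h i
  rw [← par_add_par Q x, mul_add, add_mul, (d i).central (par_mem Q 0 x), z_mul_odd (d i) (par_mem Q 1 x),
    add_right_inj, sub_mul, smul_mul_assoc, one_mul] at h'
  rw [wEl, sub_mul, smul_mul_assoc, one_mul, two_mul, add_mul, ← sub_sub, ← h', sub_self]

/-- The centre consists of the scalars. -/
theorem center_eq_bot : Subalgebra.center R (CliffordAlgebra Q) = ⊥ := by
  refine eq_bot_iff.mpr fun x hx => ?_
  have hc : ∀ y, y * x = x * y := Subalgebra.mem_center_iff.mp hx
  have h0 : x ∈ evenOdd Q 0 := mem_even_of_comm d hd fun i => hc _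
  obtain ⟨r, rfl⟩ := eq_algebraMap_of_superCentral b hQ x fun v => by
    rw [involute_eq_of_mem_even h0, hc]
  exact (Subalgebra.mem_toSubmodule _).mp (Algebra.mem_bot.mpr ⟨r, rfl⟩)

omit b hQ in
/-- The even part is the centraliser of its centre. -/
theorem centralizer_center_even :
    Subalgebra.centralizer R
      ((CliffordAlgebra.even Q).val '' (Subalgebra.center R ↥(CliffordAlgebra.even Q) : Set ↥(CliffordAlgebra.even Q))) =
      CliffordAlgebra.even Q := by
  refine le_antisymm (fun x hx => mem_even_of_comm d hd fun i => ?_) fun x hx => ?_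
  · rw [Subalgebra.mem_centralizer_iff] at hx
    exact hx _ ⟨⟨(d i).z, (d i).mem⟩, (d i).mem_center, rfl⟩
  · rw [Subalgebra.mem_centralizer_iff]
    rintro _ ⟨c, hc, rfl⟩
    exact congrArg Subtype.val (Subalgebra.mem_center_iff.mp hc ⟨x, hx⟩).symm

omit hQ hd in
theorem exists_isCompl_range_ι : ∃ W : Submodule R (CliffordAlgebra Q), IsCompl (LinearMap.range (ι Q)) W := by
  haveI := Module.Free.of_basis b
  obtain ⟨B, hB⟩ := exists_toExterior (Q := Q) b
  let proj : CliffordAlgebra Q →ₗ[R] CliffordAlgebra Q :=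
    (ι Q).comp ((ExteriorAlgebra.ιInv (R := R) (M := M)).comp (changeForm hB))
  have hl : ∀ v, proj (ι Q v) = ι Q v := fun v => by
    show ι Q (ExteriorAlgebra.ιInv (changeForm hB (ι Q v))) = ι Q v
    rw [changeForm_ι]
    exact congrArg (ι Q) (ExteriorAlgebra.ι_leftInverse v)
  exact ⟨LinearMap.ker proj, LinearMap.IsProj.isCompl (p := LinearMap.range (ι Q)) (f := proj)
    ⟨fun x => ⟨_, rfl⟩, fun x ⟨v, hv⟩ => by rw [← hv]; exact hl v⟩⟩

end Global

end QuadCEven
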