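import Groth.Agent.QuadSch.OddCliff

/-!
The even Clifford algebra of the hyperbolic form is a product of two matrix algebras.
-/

open TensorProduct

namespace QuadCEven

open CliffordAlgebra QuadCliff QuadSch

universe u v

section Parity

variable {R : Type u} [CommRing R] {M : Type v} [AddCommGroup M] [Module R M] {Q : QuadraticForm R M}

theorem contract_mem (d : Module.Dual R M) {i : ZMod 2} {x : CliffordAlgebra Q} (hx : x ∈ evenOdd Q i) :
    contractLeft (Q := Q) d x ∈ evenOdd Q (i + 1) := by
  rcases ((by decide : ∀ j : ZMod 2, j = 0 ∨ j = 1) i) with rfl | rfl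
  · rw [zero_add]
    induction x, hx using even_induction with
    | algebraMap r => rw [contractLeft_algebraMap]; exact Submodule.zero_mem _
    | add x y _ _ hx hy => rw [map_add]; exact Submodule.add_mem _ hx hy
    | ι_mul_ι_mul v w x hxm hx =>
      rw [mul_assoc, contractLeft_ι_mul, contractLeft_ι_mul]
      refine Submodule.sub_mem _ (Submodule.smul_mem _ _ ?_) ?_
      · simpa using SetLike.mul_mem_graded (ι_mem_evenOdd_one Q w) hxm
      · have h1 : d w • x - ι Q w * contractLeft (Q := Q) d x ∈ evenOdd Q 0 :=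
          Submodule.sub_mem _ (Submodule.smul_mem _ _ hxm) (by
            simpa [show (1 + 1 : ZMod 2) = 0 by decide] using SetLike.mul_mem_graded (ι_mem_evenOdd_one Q w) hx)
        simpa using SetLike.mul_mem_graded (ι_mem_evenOdd_one Q v) h1
  · rw [show (1 + 1 : ZMod 2) = 0 by decide]
    induction x, hx using odd_induction with
    | ι v => rw [contractLeft_ι]; exact SetLike.algebraMap_mem_graded _ _
    | add x y _ _ hx hy => rw [map_add]; exact Submodule.add_mem _ hx hy
    | ι_mul_ι_mul v w x hxm hx =>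
      rw [mul_assoc, contractLeft_ι_mul, contractLeft_ι_mul]
      refine Submodule.sub_mem _ (Submodule.smul_mem _ _ ?_) ?_
      · simpa [show (1 + 1 : ZMod 2) = 0 by decide] using SetLike.mul_mem_graded (ι_mem_evenOdd_one Q w) hxm
      · have h1 : d w • x - ι Q w * contractLeft (Q := Q) d x ∈ evenOdd Q 1 :=
          Submodule.sub_mem _ (Submodule.smul_mem _ _ hxm) (by
            simpa using SetLike.mul_mem_graded (ι_mem_evenOdd_one Q w) hx)
        simpa [show (1 + 1 : ZMod 2) = 0 by decide] using SetLike.mul_mem_graded (ι_mem_evenOdd_one Q v) h1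

theorem prod_ofFn_mem : ∀ (n : ℕ) (v : Fin n → M),
    (List.ofFn fun i => ι Q (v i)).prod ∈ evenOdd Q (n : ZMod 2) := by
  intro n
  induction n with
  | zero => intro v; simpa using SetLike.one_mem_graded (evenOdd Q)
  | succ k ih =>
    intro v
    rw [List.ofFn_succ, List.prod_cons, Nat.cast_succ, add_comm]
    exact SetLike.mul_mem_graded (ι_mem_evenOdd_one Q _) (ih fun i => v i.succ)

end Parity

section Block

variable {A : Type u} [CommRing A] {σ : Type*} [Fintype σ] (P : σ → ZMod 2) {M N : Matrix σ σ A}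

theorem submatrix_mul_of_block (hM : ∀ s k, P s ≠ P k → M s k = 0) (i : ZMod 2) :
    (M * N).submatrix (Subtype.val : {s // P s = i} → σ) (Subtype.val : {s // P s = i} → σ) =
      M.submatrix (Subtype.val : {s // P s = i} → σ) (Subtype.val : {s // P s = i} → σ) *
        N.submatrix (Subtype.val : {s // P s = i} → σ) (Subtype.val : {s // P s = i} → σ) := by
  classical
  ext s t
  rw [Matrix.submatrix_apply, Matrix.mul_apply, Matrix.mul_apply]
  simp only [Matrix.submatrix_apply]
  rw [← Finset.sum_subtype (Finset.univ.filter fun k => P k = i) (by simp) (fun k => M s.1 k * N k t.1)]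
  refine (Finset.sum_subset (Finset.subset_univ _) fun k _ hk => ?_).symm
  rw [hM s.1 k (by rw [s.2]; exact fun h => hk (by simp [h])), zero_mul]

end Block

section Spinor

variable (A : Type u) [CommRing A] (m : ℕ)

local notation "E₀" => (0 : QuadraticForm A (Fin m → A))

theorem spinorRep_mem {j : ZMod 2} {y : CliffordAlgebra (qNeg A m)} (hy : y ∈ evenOdd (qNeg A m) j)
    {i : ZMod 2} {t : ExteriorAlgebra A (Fin m → A)} (ht : t ∈ evenOdd E₀ i) :
    spinorRep A m y t ∈ evenOdd E₀ (i + j) := by
  have h1 : ∀ (v : Fin (2 * m) → A) {i : ZMod 2} {t : ExteriorAlgebra A (Fin m → A)}, t ∈ evenOdd E₀ i →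
      spinorRep A m (ι _ v) t ∈ evenOdd E₀ (i + 1) := by
    intro v i t ht
    rw [spinorRep, CliffordAlgebra.lift_ι_apply]
    simp only [LinearMap.sub_apply, LinearMap.comp_apply]
    refine Submodule.sub_mem _ ?_ (contract_mem _ ht)
    rw [add_comm]
    exact SetLike.mul_mem_graded (ι_mem_evenOdd_one E₀ _) ht
  rcases ((by decide : ∀ j : ZMod 2, j = 0 ∨ j = 1) j) with rfl | rfl
  · rw [add_zero]
    induction y, hy using even_induction generalizing t with
    | algebraMap r => rw [AlgHom.commutes, Module.algebraMap_end_apply]; exact Submodule.smul_mem _ _ ht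
    | add x y _ _ hx hy => rw [map_add, LinearMap.add_apply]; exact Submodule.add_mem _ (hx ht) (hy ht)
    | ι_mul_ι_mul v w x _ hx =>
      rw [map_mul, map_mul, Module.End.mul_apply, Module.End.mul_apply]
      have := h1 v (h1 w (hx ht))
      rwa [add_assoc, show (1 + 1 : ZMod 2) = 0 by decide, add_zero] at this
  · induction y, hy using odd_induction generalizing t with
    | ι v => exact h1 v ht
    | add x y _ _ hx hy => rw [map_add, LinearMap.add_apply]; exact Submodule.add_mem _ (hx ht) (hy ht)
    | ι_mul_ι_mul v w x _ hx =>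
      rw [map_mul, map_mul, Module.End.mul_apply, Module.End.mul_apply]
      have := h1 v (h1 w (hx ht))
      rwa [add_assoc (i + 1), show (1 + 1 : ZMod 2) = 0 by decide, add_zero] at this

/-- The standard basis of the exterior algebra. -/
noncomputable def extBasis : Module.Basis (Finset (Fin m)) A (ExteriorAlgebra A (Fin m → A)) :=
  (Pi.basisFun A (Fin m)).ExteriorAlgebra

/-- Parity of a basis index. -/
def pty (s : Finset (Fin m)) : ZMod 2 := (s.card : ZMod 2)

theorem extBasis_mem (s : Finset (Fin m)) : extBasis A m s ∈ evenOdd E₀ (pty m s) := by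
  rw [extBasis, ExteriorAlgebra.basis_apply]
  simp only [ExteriorAlgebra.ιMulti_family, ExteriorAlgebra.ιMulti_apply]
  exact prod_ofFn_mem (Q := E₀) s.card _

theorem repr_eq_zero {i : ZMod 2} {x : ExteriorAlgebra A (Fin m → A)} (hx : x ∈ evenOdd E₀ i)
    {s : Finset (Fin m)} (hs : pty m s ≠ i) : (extBasis A m).repr x s = 0 := by
  classical
  let e := extBasis A m
  let y := ∑ t, if pty m t ≠ i then e.repr x t • e t else 0
  have hy : y ∈ evenOdd E₀ (i + 1) := Submodule.sum_mem _ fun t _ => by
    split_ifs with h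
    · have hij : ∀ a c : ZMod 2, a ≠ c → c + 1 = a := by decide
      rw [hij _ _ h]
      exact Submodule.smul_mem _ _ (extBasis_mem A m t)
    · exact Submodule.zero_mem _
  have hy' : y ∈ evenOdd E₀ i := by
    have h2 : x - y = ∑ t, if pty m t = i then e.repr x t • e t else 0 := by
      rw [sub_eq_iff_eq_add, ← Finset.sum_add_distrib]
      refine (e.sum_repr x).symm.trans (Finset.sum_congr rfl fun t _ => ?_)
      by_cases h : pty m t = i <;> simp [h]
    have h3 : x - y ∈ evenOdd E₀ i := h2 ▸ Submodule.sum_mem _ fun t _ => by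
      split_ifs with h
      · exact h ▸ Submodule.smul_mem _ _ (extBasis_mem A m t)
      · exact Submodule.zero_mem _
    simpa using Submodule.sub_mem _ hx h3
  have hy0 : y = 0 := by
    have hne : ∀ c : ZMod 2, c + 1 ≠ c := by decide
    rw [← par_of_mem (q := E₀) hy', par_eq_zero (q := E₀) hy (hne i)]
  have := congrArg (fun z => e.repr z s) hy0
  rw [show y = ∑ t, (if pty m t ≠ i then e.repr x t else 0) • e t from
    Finset.sum_congr rfl fun t _ => by rw [ite_smul, zero_smul]] at this
  simp only [e.repr_sum_self, map_zero, Finsupp.zero_apply, if_pos hs] at this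
  exact this

/-- The spinor representation in matrices. -/
noncomputable def spinorMat : CliffordAlgebra (qNeg A m) ≃ₐ[A] Matrix (Finset (Fin m)) (Finset (Fin m)) A :=
  (AlgEquiv.ofBijective (spinorRep A m) (spinorRep_bijective A m)).trans (algEquivMatrix (extBasis A m))

theorem spinorMat_apply (y : CliffordAlgebra (qNeg A m)) (s t : Finset (Fin m)) :
    spinorMat A m y s t = (extBasis A m).repr (spinorRep A m y (extBasis A m t)) s := by
  simp [spinorMat, algEquivMatrix, algEquivMatrix', LinearMap.toMatrixAlgEquiv'_apply, LinearEquiv.conjAlgEquiv]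

theorem spinorMat_eq_zero {j : ZMod 2} {y : CliffordAlgebra (qNeg A m)} (hy : y ∈ evenOdd (qNeg A m) j)
    {s t : Finset (Fin m)} (h : pty m s ≠ pty m t + j) : spinorMat A m y s t = 0 := by
  rw [spinorMat_apply]
  exact repr_eq_zero A m (spinorRep_mem A m hy (extBasis_mem A m t)) h

/-- The basis indices of a given parity. -/
abbrev PIdx (i : ZMod 2) := {s : Finset (Fin m) // pty m s = i}

/-- The two diagonal blocks. -/
noncomputable def blockHom : ↥(CliffordAlgebra.even (qNeg A m)) →ₐ[A]
    Matrix (PIdx m 0) (PIdx m 0) A × Matrix (PIdx m 1) (PIdx m 1) A :=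
  AlgHom.ofLinearMap
    { toFun := fun y => ((spinorMat A m y.1).submatrix Subtype.val Subtype.val,
        (spinorMat A m y.1).submatrix Subtype.val Subtype.val)
      map_add' := fun y z => by ext <;> simp
      map_smul' := fun r y => by ext <;> simp }
    (by
      refine Prod.ext ?_ ?_ <;>
      · show (spinorMat A m 1).submatrix Subtype.val Subtype.val = _
        rw [map_one, Matrix.submatrix_one _ Subtype.val_injective]
        rfl)
    fun y z => by
      have h : ∀ s k, pty m s ≠ pty m k → spinorMat A m y.1 s k = 0 := fun s k h =>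
        spinorMat_eq_zero A m y.2 (by rwa [add_zero])
      refine Prod.ext ?_ ?_ <;>
      · show (spinorMat A m (y.1 * z.1)).submatrix Subtype.val Subtype.val = _
        rw [map_mul]
        exact submatrix_mul_of_block (pty m) h _

theorem blockHom_bijective : Function.Bijective (blockHom A m) := by
  constructor
  · intro y z h
    refine Subtype.ext ((spinorMat A m).injective (Matrix.ext fun s t => ?_))
    by_cases hst : pty m s = pty m t
    · rcases ((by decide : ∀ j : ZMod 2, j = 0 ∨ j = 1) (pty m s)) with hs | hs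
      · exact congrFun (congrFun (congrArg Prod.fst h) ⟨s, hs⟩) ⟨t, hst ▸ hs⟩
      · exact congrFun (congrFun (congrArg Prod.snd h) ⟨s, hs⟩) ⟨t, hst ▸ hs⟩
    · rw [spinorMat_eq_zero A m y.2 (by rwa [add_zero]), spinorMat_eq_zero A m z.2 (by rwa [add_zero])]
  · rintro ⟨M0, M1⟩
    let F : Matrix (Finset (Fin m)) (Finset (Fin m)) A := Matrix.of fun s t =>
      if h : pty m s = 0 ∧ pty m t = 0 then M0 ⟨s, h.1⟩ ⟨t, h.2⟩
      else if h' : pty m s = 1 ∧ pty m t = 1 then M1 ⟨s, h'.1⟩ ⟨t, h'.2⟩ else 0
    let x := (spinorMat A m).symm F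
    refine ⟨⟨par (qNeg A m) 0 x, par_mem _ 0 x⟩, ?_⟩
    have hne : ∀ c : ZMod 2, c ≠ c + 1 := by decide
    have key : ∀ s t, pty m s = pty m t → spinorMat A m (par (qNeg A m) 0 x) s t = F s t := fun s t hst => by
      have h := congrArg (fun z => spinorMat A m z s t) (par_add_par (qNeg A m) x)
      simp only [map_add, Matrix.add_apply] at h
      rw [spinorMat_eq_zero A m (par_mem (qNeg A m) 1 x) (hst ▸ hne _), add_zero] at h
      rw [h]
      simp [x]
    refine Prod.ext (Matrix.ext fun s t => ?_) (Matrix.ext fun s t => ?_)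
    · show spinorMat A m (par (qNeg A m) 0 x) s.1 t.1 = M0 s t
      rw [key _ _ (s.2.trans t.2.symm)]
      simp [F, s.2, t.2]
    · show spinorMat A m (par (qNeg A m) 0 x) s.1 t.1 = M1 s t
      rw [key _ _ (s.2.trans t.2.symm)]
      simp [F, s.2, t.2]

theorem card_pIdx (k : ℕ) (i : ZMod 2) : Fintype.card (PIdx (k + 1) i) = 2 ^ k := by
  classical
  let tg : Finset (Fin (k + 1)) → Finset (Fin (k + 1)) := fun s => if (0 : Fin (k + 1)) ∈ s then s.erase 0 else insert 0 s
  have htg : ∀ s, tg (tg s) = s := fun s => by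
    by_cases h : (0 : Fin (k + 1)) ∈ s <;> simp [tg, h]
  have hp : ∀ s, pty (k + 1) (tg s) = pty (k + 1) s + 1 := fun s => by
    by_cases h : (0 : Fin (k + 1)) ∈ s
    · simp only [tg, h, if_true, pty]
      rw [← Finset.card_erase_add_one h, Nat.cast_add, Nat.cast_one, add_assoc, show (1 + 1 : ZMod 2) = 0 by decide,
        add_zero]
    · simp [tg, h, pty]
  have he : ∀ j : ZMod 2, Fintype.card (PIdx (k + 1) j) = Fintype.card (PIdx (k + 1) (j + 1)) := fun j =>
    Fintype.card_congr
      { toFun := fun s => ⟨tg s.1, by rw [hp, s.2]⟩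
        invFun := fun s => ⟨tg s.1, by rw [hp, s.2, add_assoc, show (1 + 1 : ZMod 2) = 0 by decide, add_zero]⟩
        left_inv := fun s => Subtype.ext (htg _)
        right_inv := fun s => Subtype.ext (htg _) }
  have hcompl : Fintype.card (PIdx (k + 1) 0) + Fintype.card (PIdx (k + 1) 1) = 2 ^ (k + 1) := by
    have hne : ∀ j : ZMod 2, j = 1 ↔ ¬j = 0 := by decide
    rw [Fintype.card_congr (Equiv.subtypeEquivRight fun s => hne (pty (k + 1) s)), ← Fintype.card_sum,
      Fintype.card_congr (Equiv.sumCompl fun s : Finset (Fin (k + 1)) => pty (k + 1) s = 0)]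
    simp
  have h01 : Fintype.card (PIdx (k + 1) 0) = Fintype.card (PIdx (k + 1) 1) := by simpa using he 0
  have hj := (by decide : ∀ j : ZMod 2, j = 0 ∨ j = 1) i
  rw [pow_succ] at hcompl
  rcases hj with rfl | rfl <;> omega

/-- The even Clifford algebra of the hyperbolic form. -/
theorem even_qNeg_matrix (hm : 1 ≤ m) : Nonempty (↥(CliffordAlgebra.even (qNeg A m)) ≃ₐ[A]
    (Matrix (Fin (2 ^ (m - 1))) (Fin (2 ^ (m - 1))) A × Matrix (Fin (2 ^ (m - 1))) (Fin (2 ^ (m - 1))) A)) := by
  obtain ⟨k, rfl⟩ : ∃ k, m = k + 1 := ⟨m - 1, by omega⟩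
  exact ⟨(AlgEquiv.ofBijective (blockHom A (k + 1)) (blockHom_bijective A (k + 1))).trans
    (AlgEquiv.prodCongr (Matrix.reindexAlgEquiv A A (Fintype.equivFinOfCardEq (card_pIdx k 0)))
      (Matrix.reindexAlgEquiv A A (Fintype.equivFinOfCardEq (card_pIdx k 1))))⟩

/-- The Clifford algebra of the hyperbolic form. -/
theorem qNeg_matrix : Nonempty (CliffordAlgebra (qNeg A m) ≃ₐ[A] Matrix (Fin (2 ^ m)) (Fin (2 ^ m)) A) :=
  ⟨(spinorMat A m).trans (Matrix.reindexAlgEquiv A A
    (Fintype.equivFinOfCardEq (by simp : Fintype.card (Finset (Fin m)) = 2 ^ m)))⟩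

end Spinor

end QuadCEven
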