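import Groth.Agent.QuadCEven.Split
import Groth.Agent.EtSectLib.Main

/-!
A regular form of even rank is hyperbolic étale locally on the base.
-/

open Matrix QuadGrpLib QuadSch CategoryTheory AlgebraicGeometry

namespace QuadCEven

universe u

variable {A : Type u} [CommRing A] {m : ℕ}

/-- Every prime has an étale neighbourhood over which the congruence has a solution. -/
theorem exists_etale_congr (U : Matrix (Fin (2 * m)) (Fin (2 * m)) A) (hU : IsUnit (U + Uᵀ).det)
    (p : PrimeSpectrum A) :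
    ∃ (B : Type u) (_ : CommRing B) (_ : Algebra A B), Algebra.Etale A B ∧
      (∃ q : PrimeSpectrum B, PrimeSpectrum.comap (algebraMap A B) q = p) ∧
      ∃ g : Matrix (Fin (2 * m)) (Fin (2 * m)) B, IsAltMat (gᵀ * U.map (algebraMap A B) * g - negMat B m) := by
  let T := ZeroAlg (isomRel U (negMat A m))
  let f : Spec (CommRingCat.of T) ⟶ Spec (CommRingCat.of A) := Spec.map (CommRingCat.ofHom (algebraMap A T))
  haveI : Smooth f := (HasRingHomProperty.Spec_iff (P := @Smooth)).2 (smooth_isomAlg _ _ (isUnit_negPolar A m))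
  haveI := faithfullyFlat_isomAlg m hU
  have hp : p ∈ Set.range f := PrimeSpectrum.comap_surjective_of_faithfullyFlat (A := A) (B := T) p
  obtain ⟨S', π, s', hπ, hπs, h, hh⟩ := EtSectLib.exists_section f p hp
  obtain ⟨W, hW, hsW, -⟩ := exists_isAffineOpen_mem_and_subset (X := S') (x := s') (U := ⊤) trivial
  obtain ⟨w, rfl⟩ : s' ∈ Set.range hW.fromSpec := hW.range_fromSpec.ge hsW
  obtain ⟨φ, hφ⟩ := Spec.map_surjective (hW.fromSpec ≫ π)
  obtain ⟨ψ, hψ⟩ := Spec.map_surjective (hW.fromSpec ≫ h)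
  letI : Algebra A Γ(S', W) := φ.hom.toAlgebra
  haveI : IsOpenImmersion hW.fromSpec := inferInstance
  haveI : Etale (Spec.map φ) := hφ ▸ inferInstance
  have hcomp : CommRingCat.ofHom (algebraMap A T) ≫ ψ = φ := Spec.map_injective (by
    rw [Spec.map_comp, hψ, hφ, Category.assoc]
    exact congrArg (hW.fromSpec ≫ ·) hh)
  let ψ' : T →ₐ[A] Γ(S', W) :=
    { ψ.hom with
      commutes' := fun r => congrArg (fun χ : CommRingCat.of A ⟶ Γ(S', W) => χ.hom r) hcomp }
  refine ⟨Γ(S', W), inferInstance, inferInstance,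
    RingHom.etale_algebraMap.mp ((HasRingHomProperty.Spec_iff (P := @Etale)).1 ‹Etale (Spec.map φ)›),
    ⟨w, ?_⟩, ?_⟩
  · show (Spec.map φ) w = p
    rw [hφ, Scheme.Hom.comp_apply, hπs]
  · have halt := (aeval_isomRel U (negMat A m) _).mp ((zeroAlgEquiv _ Γ(S', W)) ψ').2
    rw [negMat_map] at halt
    exact ⟨_, halt⟩

/-- A finite étale cover over which the congruence has solutions. -/
theorem exists_cover_congr (U : Matrix (Fin (2 * m)) (Fin (2 * m)) A) (hU : IsUnit (U + Uᵀ).det) :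
    ∃ (n : ℕ) (B : Fin n → Type u) (_ : ∀ t, CommRing (B t)) (_ : ∀ t, Algebra A (B t)),
      (∀ t, Algebra.Etale A (B t)) ∧
      (∀ p : PrimeSpectrum A, ∃ (t : Fin n) (q : PrimeSpectrum (B t)),
        q.asIdeal.comap (algebraMap A (B t)) = p.asIdeal) ∧
      ∀ t, ∃ g : Matrix (Fin (2 * m)) (Fin (2 * m)) (B t),
        IsAltMat (gᵀ * U.map (algebraMap A (B t)) * g - negMat (B t) m) := by
  choose B hB hAB het hq g hg using exists_etale_congr U hU
  have hopen : ∀ p, IsOpen (Set.range (PrimeSpectrum.comap (algebraMap A (B p)))) := fun p =>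
    letI := hB p; letI := hAB p; haveI := het p
    (PrimeSpectrum.isOpenMap_comap_of_hasGoingDown_of_finitePresentation (R := A) (S := B p)).isOpen_range
  obtain ⟨s, hs⟩ := isCompact_univ.elim_finite_subcover _ hopen fun p _ => Set.mem_iUnion.mpr ⟨p, hq p⟩
  refine ⟨s.card, fun t => B (s.equivFin.symm t : PrimeSpectrum A), fun t => hB _, fun t => hAB _, fun t => het _,
    fun p => ?_, fun t => ⟨_, hg _⟩⟩
  obtain ⟨p', hp', q', hq'⟩ := Set.mem_iUnion₂.mp (hs (Set.mem_univ p))
  refine ⟨s.equivFin ⟨p', hp'⟩, ?_⟩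
  have key : ∀ p'' : PrimeSpectrum A, p'' = p' →
      ∃ q'' : PrimeSpectrum (B p''), q''.asIdeal.comap (algebraMap A (B p'')) = p.asIdeal := by
    rintro p'' rfl
    exact ⟨q', congrArg PrimeSpectrum.asIdeal hq'⟩
  exact key _ (congrArg Subtype.val (s.equivFin.symm_apply_apply ⟨p', hp'⟩))

theorem sum_submatrix {B : Type u} [CommRing B] {σ : Type*} [Fintype σ] (e : σ ≃ Fin (2 * m))
    (V : Matrix (Fin (2 * m)) (Fin (2 * m)) B) (x : σ → B) :
    ∑ i, ∑ j, V (e i) (e j) * x i * x j = ∑ a, ∑ c, x (e.symm a) * x (e.symm c) * V a c := by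
  rw [← Equiv.sum_comp e (fun a => ∑ c, x (e.symm a) * x (e.symm c) * V a c)]
  refine Finset.sum_congr rfl fun i _ => ?_
  rw [← Equiv.sum_comp e (fun c => x (e.symm (e i)) * x (e.symm c) * V (e i) c)]
  refine Finset.sum_congr rfl fun j _ => ?_
  rw [Equiv.symm_apply_apply, Equiv.symm_apply_apply]
  ring

end QuadCEven

namespace QuadCEven

universe u

variable {B : Type u} [CommRing B] {m : ℕ}

theorem isUnit_det_of_congr {U g : Matrix (Fin (2 * m)) (Fin (2 * m)) B}
    (halt : IsAltMat (gᵀ * U * g - negMat B m)) : IsUnit g.det := by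
  have e : gᵀ * (U + Uᵀ) * g = negMat B m + (negMat B m)ᵀ := by
    rw [← add_transpose_eq_of_alt halt]
    simp only [Matrix.transpose_mul, Matrix.transpose_transpose, Matrix.mul_add, Matrix.add_mul, Matrix.mul_assoc]
  have h := isUnit_negPolar B m
  rw [← e, Matrix.det_mul] at h
  exact (IsUnit.mul_iff.mp h).2

/-- From `-∑ xy` to `∑ xy` in the indices of two copies of `Fin m`. -/
theorem exists_split_matrix (e : Fin m ⊕ Fin m ≃ Fin (2 * m)) (he0 : ∀ j, e (Sum.inl j) = oddPair m (j, 0))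
    (he1 : ∀ j, e (Sum.inr j) = oddPair m (j, 1)) {U g : Matrix (Fin (2 * m)) (Fin (2 * m)) B}
    (halt : IsAltMat (gᵀ * U * g - negMat B m)) :
    ∃ G : Matrix (Fin m ⊕ Fin m) (Fin m ⊕ Fin m) B, IsUnit G.det ∧ ∀ x : Fin m ⊕ Fin m → B,
      ∑ i, ∑ j, U (e i) (e j) * G.mulVec x i * G.mulVec x j = ∑ j, x (Sum.inl j) * x (Sum.inr j) := by
  let d : Fin (2 * m) → B := fun a => if ((oddPair m).symm a).2 = 0 then -1 else 1
  have hd : IsUnit (Matrix.diagonal d).det := by
    rw [Matrix.det_diagonal, IsUnit.prod_univ_iff]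
    exact fun a => by by_cases h : ((oddPair m).symm a).2 = 0 <;> simp [d, h, isUnit_one.neg]
  refine ⟨(g * Matrix.diagonal d).submatrix e e, ?_, fun x => ?_⟩
  · rw [Matrix.det_submatrix_equiv_self, Matrix.det_mul]
    exact (isUnit_det_of_congr halt).mul hd
  · rw [sum_submatrix e U]
    have hy : ∀ a, ((g * Matrix.diagonal d).submatrix e e).mulVec x (e.symm a) =
        (g *ᵥ (Matrix.diagonal d *ᵥ (x ∘ e.symm))) a := fun a => by
      rw [Matrix.submatrix_mulVec_equiv, Function.comp_apply, Equiv.apply_symm_apply, Matrix.mulVec_mulVec]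
    simp only [hy]
    rw [sum_congr_mat]
    have h0 := sum_quad_eq_zero halt (Matrix.diagonal d *ᵥ (x ∘ e.symm))
    simp only [Matrix.sub_apply, mul_sub, Finset.sum_sub_distrib, sub_eq_zero] at h0
    rw [h0, sum_negMat, qNeg_apply, ← Finset.sum_neg_distrib]
    refine Finset.sum_congr rfl fun i _ => ?_
    rw [← he0, ← he1, Matrix.mulVec_diagonal, Matrix.mulVec_diagonal]
    simp [d, Function.comp_apply, he0, he1]
    ring_nf
    rw [← he0, ← he1, Equiv.symm_apply_apply, Equiv.symm_apply_apply]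

end QuadCEven
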