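import Groth.Agent.QuadCEven.Blocks
import Mathlib.RingTheory.Etale.Pi
import Mathlib.Algebra.Central.Matrix

/-!
A regular form of even rank becomes hyperbolic after a faithfully flat finitely presented extension.
-/

open Matrix TensorProduct QuadGrpLib

namespace QuadCEven

open CliffordAlgebra QuadCliff QuadSch

universe u v w

section Hyp

variable (A : Type u) [CommRing A] (m : ℕ)

/-- The matrix of `-∑ x y`. -/
def negMat : Matrix (Fin (2 * m)) (Fin (2 * m)) A := Matrix.of fun a c =>
  if ((oddPair m).symm a).1 = ((oddPair m).symm c).1 ∧ ((oddPair m).symm a).2 = 0 ∧ ((oddPair m).symm c).2 = 1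
  then -1 else 0

theorem sum_negMat (x : Fin (2 * m) → A) : ∑ a, ∑ c, x a * x c * negMat A m a c = qNeg A m x := by
  rw [qNeg_apply, ← Equiv.sum_comp (oddPair m), Fintype.sum_prod_type, ← Finset.sum_neg_distrib]
  refine Finset.sum_congr rfl fun i _ => ?_
  rw [Fin.sum_univ_two, ← Equiv.sum_comp (oddPair m), ← Equiv.sum_comp (oddPair m)]
  simp [negMat, Fintype.sum_prod_type, Fin.sum_univ_two]

theorem negMat_map {B : Type v} [CommRing B] (f : A →+* B) : (negMat A m).map f = negMat B m := by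
  ext a c
  simp only [negMat, Matrix.map_apply, Matrix.of_apply]
  split_ifs <;> simp

theorem negPolar_sq : (negMat A m + (negMat A m)ᵀ) * (negMat A m + (negMat A m)ᵀ) = 1 := by
  ext a c
  obtain ⟨⟨i, d⟩, rfl⟩ := (oddPair m).surjective a
  obtain ⟨⟨j, e⟩, rfl⟩ := (oddPair m).surjective c
  rw [Matrix.mul_apply, ← Equiv.sum_comp (oddPair m), Fintype.sum_prod_type, Matrix.one_apply]
  fin_cases d <;> fin_cases e <;>
    simp [negMat, Fin.sum_univ_two, eq_comm] <;> split_ifs <;> simp

theorem isUnit_negPolar : IsUnit (negMat A m + (negMat A m)ᵀ).det :=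
  IsUnit.of_mul_eq_one _ (by rw [← Matrix.det_mul, negPolar_sq, Matrix.det_one])

end Hyp

section Field

variable {K : Type u} [Field K] [IsAlgClosed K]

theorem exists_congr_neg (m : ℕ) (U : Matrix (Fin (2 * m)) (Fin (2 * m)) K) (hU : IsUnit (U + Uᵀ).det) :
    ∃ g : Matrix (Fin (2 * m)) (Fin (2 * m)) K, IsAltMat (gᵀ * U * g - negMat K m) := by
  classical
  let b := Pi.basisFun K (Fin (2 * m))
  let B : LinearMap.BilinMap K (Fin (2 * m) → K) K := Matrix.toBilin' U
  let q : QuadraticForm K (Fin (2 * m) → K) := B.toQuadraticMap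
  have hUmat : Matrix.of (fun i j => B (b i) (b j)) = U := by
    ext i j
    simp [B, b, Matrix.toBilin'_single]
  have hUq : QuadGrp.coeffs b (LinearEquiv.refl K K) q = uCoeff U := by
    rw [coeffs_eq_uCoeff b q B rfl, hUmat]
  have hreg : QuadGrp.IsRegular q := by
    refine QuadCliff.isRegular_of_isUnit_det b ?_
    have : QuadGrpLib.polarMat b q = U + Uᵀ := by
      ext i j
      simp [QuadGrpLib.polarMat, q, QuadraticMap.polar, B, b, Matrix.toBilin'_single]
      ring
    rwa [this]
  obtain ⟨f, hf⟩ := exists_hyperbolic m q b hreg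
  let s : Fin m × Fin 2 → K := fun p => if p.2 = 0 then -1 else 1
  let l : (Fin (2 * m) → K) →ₗ[K] (Fin (2 * m) → K) := f.toLinearMap.comp
    (LinearMap.pi fun p => s p • LinearMap.proj (oddPair m p))
  have hl : ∀ x, q (l x) = qNeg K m x := fun x => by
    show q (f fun p => s p • x (oddPair m p)) = _
    rw [hf, qNeg_apply, ← Finset.sum_neg_distrib]
    exact Finset.sum_congr rfl fun i _ => by simp [s]
  refine ⟨LinearMap.toMatrix' l, isAltMat_of_sum_eq_zero fun x => ?_⟩
  have hr : ∀ y : Fin (2 * m) → K, (b.repr y : Fin (2 * m) → K) = y := fun y => funext fun i => by simp [b]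
  have h1 := form_eq_sum b q hUq (l x)
  rw [hl, hr, ← LinearMap.toMatrix'_mulVec, sum_congr_mat] at h1
  simp only [Matrix.sub_apply, mul_sub, Finset.sum_sub_distrib, sum_negMat, ← h1, sub_self]

end Field

section Algebra

variable {R : Type u} [CommRing R] {n : ℕ} (U U₀ : Matrix (Fin n) (Fin n) R)

/-- The equations `ᵗg U g = U₀`. -/
noncomputable def isomRel : Sym2 (Fin n) → MvPolynomial (Fin n × Fin n) R :=
  fun z => uCoeff (genMatᵀ * U.map MvPolynomial.C * genMat - U₀.map MvPolynomial.C) z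

theorem aeval_isomRel {A : Type u} [CommRing A] [Algebra R A] (x : Fin n × Fin n → A) :
    (∀ r, MvPolynomial.aeval x (isomRel U U₀ r) = 0) ↔
      IsAltMat ((Matrix.of fun i j => x (i, j))ᵀ * U.map (algebraMap R A) * (Matrix.of fun i j => x (i, j)) -
        U₀.map (algebraMap R A)) := by
  have key : ∀ z, MvPolynomial.aeval x (isomRel U U₀ z) =
      uCoeff ((Matrix.of fun i j => x (i, j))ᵀ * U.map (algebraMap R A) * (Matrix.of fun i j => x (i, j)) -
        U₀.map (algebraMap R A)) z := by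
    intro z
    let f : MvPolynomial (Fin n × Fin n) R →ₐ[R] A := MvPolynomial.aeval x
    have h1 : (genMat : Matrix (Fin n) (Fin n) (MvPolynomial (Fin n × Fin n) R)).map f =
        Matrix.of fun i j => x (i, j) := by
      ext i j; simp [genMat, f]
    have h2 : ∀ V : Matrix (Fin n) (Fin n) R, (V.map MvPolynomial.C).map f = V.map (algebraMap R A) := fun V => by
      ext i j; simp [f]
    have h3 : ∀ D : Matrix (Fin n) (Fin n) (MvPolynomial (Fin n × Fin n) R), f (uCoeff D z) = uCoeff (D.map f) z := by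
      intro D
      induction z using Sym2.ind with
      | h i j => by_cases h : i = j <;> simp [uCoeff, h]
    show f _ = _
    rw [isomRel, h3, Matrix.map_sub _ (map_sub f), Matrix.map_mul, Matrix.map_mul, Matrix.transpose_map, h1, h2, h2]
  rw [isAltMat_iff]
  exact ⟨fun h => funext fun z => by rw [← key]; exact h z, fun h z => by rw [key]; exact congrFun h z⟩

theorem smooth_isomAlg (hU₀ : IsUnit (U₀ + U₀ᵀ).det) :
    (algebraMap R (ZeroAlg (isomRel U U₀))).Smooth := by
  refine smooth_zeroAlg _ fun A _ _ I hI x hx => ?_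
  let φ := algebraMap R A
  let g : Matrix (Fin n) (Fin n) A := Matrix.of fun i j => x (i, j)
  have halt := (aeval_isomRel U U₀ (A := A ⧸ I) (fun p => Ideal.Quotient.mk I (x p))).mp (fun r => by
      rw [show (fun p => Ideal.Quotient.mk I (x p)) = fun p => (Ideal.Quotient.mkₐ R I) (x p) from rfl,
        ← MvPolynomial.comp_aeval_apply, Ideal.Quotient.mkₐ_eq_mk, Ideal.Quotient.eq_zero_iff_mem]
      exact hx r)
  have hmap : ∀ D : Matrix (Fin n) (Fin n) A, ∀ z, Ideal.Quotient.mk I (uCoeff D z) =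
      uCoeff (D.map (Ideal.Quotient.mk I)) z := by
    intro D z
    induction z using Sym2.ind with
    | h i j => by_cases h : i = j <;> simp [uCoeff, h]
  have hgm : g.map (Ideal.Quotient.mk I) = Matrix.of fun i j => Ideal.Quotient.mk I (x (i, j)) := rfl
  have hm : ∀ V : Matrix (Fin n) (Fin n) R, (V.map φ).map (Ideal.Quotient.mk I) = V.map (algebraMap R (A ⧸ I)) :=
    fun V => rfl
  have hg : ∀ z, uCoeff (gᵀ * U.map φ * g - U₀.map φ) z ∈ I := fun z => by
    rw [← Ideal.Quotient.eq_zero_iff_mem, hmap, Matrix.map_sub _ (map_sub _), Matrix.map_mul, Matrix.map_mul,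
      Matrix.transpose_map, hgm, hm, hm]
    exact congrFun ((isAltMat_iff _).mp halt) z
  have hP : IsUnit (U₀.map φ + (U₀.map φ)ᵀ).det := by
    rw [← Matrix.transpose_map, ← Matrix.map_add _ (map_add φ), ← RingHom.mapMatrix_apply, ← RingHom.map_det]
    exact hU₀.map φ
  obtain ⟨Y, hYdef⟩ : ∃ Y, Y = -((U₀.map φ + (U₀.map φ)ᵀ)⁻¹ * upper (gᵀ * U.map φ * g - U₀.map φ)) := ⟨_, rfl⟩
  have hY : MatIn I Y := fun i j => by
    rw [hYdef, Matrix.neg_apply]; exact I.neg_mem ((upper_mem hg).mul_left _ i j)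
  refine ⟨fun p => (g * (1 + Y)) p.1 p.2, fun p => mul_one_add_sub_mem (g := g) hY p.1 p.2,
    (aeval_isomRel U U₀ _).mpr ?_⟩
  show IsAltMat ((g * (1 + Y))ᵀ * U.map φ * (g * (1 + Y)) - U₀.map φ)
  rw [Matrix.transpose_mul, show (1 + Y)ᵀ * gᵀ * U.map φ * (g * (1 + Y)) = (1 + Y)ᵀ * (gᵀ * U.map φ * g) * (1 + Y) by
    simp only [Matrix.mul_assoc]]
  refine alt_congr_one_add hI hg hY ?_
  rw [hYdef, Matrix.mul_neg, Matrix.mul_nonsing_inv_cancel_left _ _ hP, add_neg_cancel]
  exact ⟨fun i => rfl, fun i j => by simp⟩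

end Algebra

theorem faithfullyFlat_isomAlg {R : Type u} [CommRing R] (m : ℕ) {U : Matrix (Fin (2 * m)) (Fin (2 * m)) R}
    (hU : IsUnit (U + Uᵀ).det) : Module.FaithfullyFlat R (ZeroAlg (isomRel U (negMat R m))) := by
  haveI : Algebra.Smooth R (ZeroAlg (isomRel U (negMat R m))) :=
    RingHom.smooth_algebraMap.mp (smooth_isomAlg _ _ (isUnit_negPolar R m))
  refine Module.FaithfullyFlat.of_comap_surjective fun P => ?_
  let K := AlgebraicClosure P.asIdeal.ResidueField
  let ψ := algebraMap R K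
  obtain ⟨g, hg⟩ := exists_congr_neg m (U.map ψ) (by
    rw [← Matrix.transpose_map, ← Matrix.map_add _ (map_add ψ), ← RingHom.mapMatrix_apply, ← RingHom.map_det]
    exact hU.map ψ)
  let φ := (zeroAlgEquiv (isomRel U (negMat R m)) K).symm
    ⟨fun p => g p.1 p.2, (aeval_isomRel _ _ _).mpr (by rw [negMat_map]; exact hg)⟩
  refine ⟨⟨RingHom.ker φ, RingHom.ker_isPrime _⟩, PrimeSpectrum.ext ?_⟩
  rw [PrimeSpectrum.comap_asIdeal]
  ext r
  rw [Ideal.mem_comap, RingHom.mem_ker, AlgHom.commutes, IsScalarTower.algebraMap_apply R P.asIdeal.ResidueField K,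
    map_eq_zero, Ideal.algebraMap_residueField_eq_zero]

/-- Splitting a regular form of even rank. -/
theorem exists_split_even {R : Type u} [CommRing R] (m : ℕ) (Q : QuadraticForm R (Fin (2 * m) → R))
    (hQ : QuadGrp.IsRegular Q) :
    ∃ (A : Type u) (_ : CommRing A) (_ : Algebra R A), Module.FaithfullyFlat R A ∧ Algebra.FinitePresentation R A ∧
      Nonempty ((QuadGrp.baseChangeForm A Q).IsometryEquiv (qNeg A m)) := by
  have hU : IsUnit (qMat Q + (qMat Q)ᵀ).det :=
    (nondeg_qMat Q ⟨fun _ => hQ, fun h => absurd h (by simp)⟩).1 (by simp)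
  let S := ZeroAlg (isomRel (qMat Q) (negMat R m))
  refine ⟨S, inferInstance, inferInstance, faithfullyFlat_isomAlg m hU, zeroAlg_finitePresentation _, ?_⟩
  have halt := (aeval_isomRel (qMat Q) (negMat R m) _).mp ((zeroAlgEquiv _ S) (AlgHom.id R S)).2
  rw [negMat_map] at halt
  set g : Matrix (Fin (2 * m)) (Fin (2 * m)) S :=
    Matrix.of fun i j => ((zeroAlgEquiv _ S) (AlgHom.id R S)).1 (i, j) with hgdef
  have hP := add_transpose_eq_of_alt halt
  have hgu : IsUnit g.det := by
    have e : gᵀ * ((qMat Q).map (algebraMap R S) + ((qMat Q).map (algebraMap R S))ᵀ) * g =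
        negMat S m + (negMat S m)ᵀ := by
      rw [← hP]
      simp only [Matrix.transpose_mul, Matrix.transpose_transpose, Matrix.mul_add, Matrix.add_mul, Matrix.mul_assoc]
    have h := isUnit_negPolar S m
    rw [← e, Matrix.det_mul] at h
    exact (IsUnit.mul_iff.mp h).2
  let bS := (Pi.basisFun R (Fin (2 * m))).baseChange S
  let e : (Fin (2 * m) → S) ≃ₗ[S] (S ⊗[R] (Fin (2 * m) → R)) :=
    (Matrix.toLinearEquiv' g ((Matrix.invertibleOfIsUnitDet g hgu))).trans bS.equivFun.symm
  refine ⟨QuadraticMap.IsometryEquiv.symm ⟨e, fun y => ?_⟩⟩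
  show QuadGrp.baseChangeForm S Q (bS.equivFun.symm (g *ᵥ y)) = _
  have hr : ∀ i, bS.repr (bS.equivFun.symm (g *ᵥ y)) i = (g *ᵥ y) i := fun i =>
    congrFun (bS.equivFun.apply_symm_apply (g *ᵥ y)) i
  rw [form_eq_sum bS _ (coeffs_baseChange Q S) (bS.equivFun.symm (g *ᵥ y))]
  simp only [hr]
  rw [sum_congr_mat, ← sum_negMat, ← sub_eq_zero, ← Finset.sum_sub_distrib]
  refine Eq.trans (Finset.sum_congr rfl fun i _ => ?_) (sum_quad_eq_zero halt y)
  rw [← Finset.sum_sub_distrib]
  exact Finset.sum_congr rfl fun j _ => by rw [Matrix.sub_apply _ _ i j, mul_sub]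

section Transport

variable {R : Type u} [CommRing R] {M : Type v} [AddCommGroup M] [Module R M]
  {N : Type w} [AddCommGroup N] [Module R N] {q : QuadraticForm R M} {q' : QuadraticForm R N}

theorem map_mem_even' (f : q →qᵢ q') {x : CliffordAlgebra q} (hx : x ∈ evenOdd q 0) :
    CliffordAlgebra.map f x ∈ evenOdd q' 0 := by
  induction x, hx using even_induction with
  | algebraMap r => rw [AlgHom.commutes]; exact SetLike.algebraMap_mem_graded _ _
  | add x y _ _ hx hy => rw [map_add]; exact Submodule.add_mem _ hx hy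
  | ι_mul_ι_mul v w x _ hx =>
    rw [map_mul, map_mul, map_apply_ι, map_apply_ι]
    simpa using SetLike.mul_mem_graded (ι_mul_ι_mem_evenOdd_zero q' (f v) (f w)) hx

/-- An isometry between modules in different universes gives an isomorphism of even parts. -/
noncomputable def evenCongr' (e : q.IsometryEquiv q') :
    CliffordAlgebra.even q ≃ₐ[R] CliffordAlgebra.even q' :=
  AlgEquiv.ofAlgHom
    (((CliffordAlgebra.map e.toIsometry).comp (CliffordAlgebra.even q).val).codRestrict _
      fun x => map_mem_even' e.toIsometry x.2)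
    (((CliffordAlgebra.map e.symm.toIsometry).comp (CliffordAlgebra.even q').val).codRestrict _
      fun x => map_mem_even' e.symm.toIsometry x.2)
    (AlgHom.ext fun x => Subtype.ext (by
      show CliffordAlgebra.map e.toIsometry (CliffordAlgebra.map e.symm.toIsometry (x : CliffordAlgebra q')) = x
      exact (equivOfIsometry e).apply_symm_apply _))
    (AlgHom.ext fun x => Subtype.ext (by
      show CliffordAlgebra.map e.symm.toIsometry (CliffordAlgebra.map e.toIsometry (x : CliffordAlgebra q)) = x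
      exact (equivOfIsometry e).symm_apply_apply _))

end Transport

variable {R : Type u} [CommRing R] {M : Type v} [AddCommGroup M] [Module R M] {m : ℕ}

/-- The fppf-local shape of the Clifford algebra and of its even part. -/
theorem exists_matrix (b : Module.Basis (Fin (2 * m)) R M) (hm : 1 ≤ m) (Q : QuadraticForm R M)
    (hQ : QuadGrp.IsRegular Q) :
    ∃ (A : Type u) (_ : CommRing A) (_ : Algebra R A), Module.FaithfullyFlat R A ∧ Algebra.FinitePresentation R A ∧
      Nonempty ((A ⊗[R] CliffordAlgebra Q) ≃ₐ[A] Matrix (Fin (2 ^ m)) (Fin (2 ^ m)) A) ∧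
      Nonempty ((A ⊗[R] ↥(CliffordAlgebra.even Q)) ≃ₐ[A]
        (Matrix (Fin (2 ^ (m - 1))) (Fin (2 ^ (m - 1))) A × Matrix (Fin (2 ^ (m - 1))) (Fin (2 ^ (m - 1))) A)) := by
  classical
  let Q' : QuadraticForm R (Fin (2 * m) → R) := Q.comp b.equivFun.symm.toLinearMap
  let e : Q.IsometryEquiv Q' := ⟨b.equivFun, fun x => by
    show Q (b.equivFun.symm (b.equivFun x)) = Q x
    rw [LinearEquiv.symm_apply_apply]⟩
  have hQ' : QuadGrp.IsRegular Q' := by
    refine QuadCliff.isRegular_of_isUnit_det (Pi.basisFun R (Fin (2 * m))) ?_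
    have : polarMat (Pi.basisFun R (Fin (2 * m))) Q' = polarMat b Q := by
      ext i j
      have hs : ∀ k, b.equivFun.symm (Pi.single k 1 : Fin (2 * m) → R) = b k := fun k => by
        rw [Module.Basis.equivFun_symm_apply]; simp [Pi.single_apply]
      simp [polarMat, Q', QuadraticMap.polar, map_add, hs, -Module.Basis.equivFun_symm_apply]
    rw [this]
    exact isUnit_det_polarMat b Q hQ
  obtain ⟨A, hA, hAR, h1, h2, ⟨iso⟩⟩ := exists_split_even m Q' hQ'
  obtain ⟨μ⟩ := qNeg_matrix A m
  obtain ⟨ν⟩ := even_qNeg_matrix A m hm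
  exact ⟨A, hA, hAR, h1, h2,
    ⟨(Algebra.TensorProduct.congr AlgEquiv.refl (equivOfIsometry e)).trans
      ((bcEquiv Q' A).symm.trans ((equivOfIsometry iso).trans μ))⟩,
    ⟨(Algebra.TensorProduct.congr AlgEquiv.refl (evenCongr' e)).trans
      ((evenBC Q' A).trans ((evenCongr' iso).trans ν))⟩⟩

section Centre

variable (A : Type u) [CommRing A] (k : ℕ)

/-- The centre of a product of two matrix algebras. -/
theorem exists_centre_prod {E : Type v} [Ring E] [Algebra A E]
    (e : E ≃ₐ[A] (Matrix (Fin (2 ^ k)) (Fin (2 ^ k)) A × Matrix (Fin (2 ^ k)) (Fin (2 ^ k)) A)) :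
    Nonempty (↥(Subalgebra.center A E) ≃ₐ[A] (Fin 2 → A)) := by
  have hmem : ∀ r : Fin 2 → A, e.symm (r 0 • 1, r 1 • 1) ∈ Subalgebra.center A E := fun r => by
    refine Subalgebra.mem_center_iff.mpr fun y => e.injective ?_
    rw [map_mul, map_mul, AlgEquiv.apply_symm_apply]
    refine Prod.ext ?_ ?_ <;> simp
  let f : (Fin 2 → A) →ₐ[A] ↥(Subalgebra.center A E) := AlgHom.ofLinearMap
    { toFun := fun r => ⟨e.symm (r 0 • 1, r 1 • 1), hmem r⟩
      map_add' := fun r s => Subtype.ext (by simp [add_smul, ← map_add])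
      map_smul' := fun c r => Subtype.ext (by simp [mul_smul, ← map_smul]) }
    (Subtype.ext (by simp [← Prod.one_eq_mk]))
    fun r s => Subtype.ext (by
      show e.symm _ = e.symm _ * e.symm _
      rw [← map_mul]
      simp [smul_smul, mul_comm])
  refine ⟨(AlgEquiv.ofBijective f ⟨fun r s h => ?_, fun c => ?_⟩).symm⟩
  · have h' := e.symm.injective (congrArg Subtype.val h)
    simp only [Prod.mk.injEq] at h'
    funext i
    fin_cases i
    · simpa using congrFun (congrFun h'.1 0) 0
    · simpa using congrFun (congrFun h'.2 0) 0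
  · have hc : ∀ y, y * e (c : E) = e (c : E) * y := fun y => by
      rw [← e.apply_symm_apply y, ← map_mul, ← map_mul, Subalgebra.mem_center_iff.mp c.2]
    obtain ⟨r₀, hr₀⟩ : (e (c : E)).1 ∈ Set.range (Matrix.scalar (Fin (2 ^ k))) :=
      Matrix.mem_range_scalar_iff_commute_single'.mpr fun i j => congrArg Prod.fst (hc (Matrix.single i j 1, 0))
    obtain ⟨r₁, hr₁⟩ : (e (c : E)).2 ∈ Set.range (Matrix.scalar (Fin (2 ^ k))) :=
      Matrix.mem_range_scalar_iff_commute_single'.mpr fun i j => congrArg Prod.snd (hc (0, Matrix.single i j 1))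
    refine ⟨![r₀, r₁], Subtype.ext ?_⟩
    show e.symm _ = _
    rw [AlgEquiv.symm_apply_eq]
    refine Prod.ext (Eq.trans ?_ hr₀) (Eq.trans ?_ hr₁) <;> simp [Matrix.smul_one_eq_diagonal]

end Centre

end QuadCEven
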