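import Groth.Agent.QuadCEven.Azumaya
import Groth.Agent.QuadCEven.Split
import Mathlib.RingTheory.Etale.Descent
import Mathlib.RingTheory.Spectrum.Prime.FreeLocus
import Mathlib.RingTheory.Flat.FaithfullyFlat.Algebra

/-! The centre of the even Clifford algebra is étale of rank two. -/

open TensorProduct

namespace QuadCEven

universe u v

variable {R : Type u} [CommRing R] {M : Type v} [AddCommGroup M] [Module R M]

theorem nontrivial_of_finrank {m : ℕ} (hV : Module.finrank R M = 2 * m) : Nontrivial R := by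
  by_contra h
  haveI := not_nontrivial_iff_subsingleton.mp h
  rw [Module.finrank, rank_subsingleton, Cardinal.one_toNat] at hV
  omega

theorem exists_basis [Module.Free R M] [Module.Finite R M] {m : ℕ} (hV : Module.finrank R M = 2 * m) :
    Nonempty (Module.Basis (Fin (2 * m)) R M) :=
  haveI := nontrivial_of_finrank hV
  ⟨Module.finBasisOfFinrankEq R M hV⟩

variable [Module.Free R M] {Q : QuadraticForm R M} {m : ℕ} (b : Module.Basis (Fin (2 * m)) R M) (hm : 1 ≤ m)
  (hQ : QuadGrp.IsRegular Q)

include b hm hQ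

theorem etale_centre :
    Algebra.Etale R (Zc Q) ∧ ∀ p : PrimeSpectrum R, Module.rankAtStalk (Zc Q) p = 2 := by
  obtain ⟨N, d, hd⟩ := QuadConn.exists_zData b hQ
  obtain ⟨hfin, hproj⟩ := finite_projective_centre b hQ d hd
  obtain ⟨A, _, _, hff, _, -, ⟨ν⟩⟩ := exists_matrix b hm Q hQ
  obtain ⟨θ, hθ⟩ := centre_baseChange b hQ d hd A
  obtain ⟨κ⟩ := exists_centre_prod A (m - 1) ν
  let e : A ⊗[R] Zc Q ≃ₐ[A] (Fin 2 → A) := (AlgEquiv.ofBijective θ hθ).trans κ
  refine ⟨?_, fun p => ?_⟩
  · haveI : Algebra.Etale A (A ⊗[R] Zc Q) := Algebra.Etale.of_equiv e.symm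
    exact Algebra.Etale.of_etale_tensorProduct_of_faithfullyFlat A
  · obtain ⟨q, hq⟩ := PrimeSpectrum.comap_surjective_of_faithfullyFlat (A := R) (B := A) p
    haveI : Nontrivial A := q.nontrivial
    have h := congrFun (Module.rankAtStalk_eq_of_equiv e.toLinearEquiv) q
    haveI : Module.Flat R (Zc Q) := Module.Flat.of_projective
    rw [Module.rankAtStalk_baseChange, hq,
      Module.rankAtStalk_eq_finrank_of_free (R := A) (M := Fin 2 → A)] at h
    simpa using h

end QuadCEven
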